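import Mathlib
import Cfsg.Agent.H946.KZ.SameF4
import Cfsg.Agent.H453.OddM.Real_m3
import Cfsg.Agent.S0205
import Cfsg.Agent.SmallSimple.DetKernel
import Cfsg.Agent.H341.ThreeList_m3
import Cfsg.Agent.H56.Exc.BigRows
import Cfsg.Agent.FastGrp
import Cfsg.Agent.Prune
set_option linter.all false

section
prune_inst 0x7ffffef8bba8fddfdfff7e3fffdddffa31c6cfffe6dff943ffe0ebbf9f9f03122be56f8f0de0f8ff0ef6e29410b87843f9ffceffe86bdc7ffffd5ff41ffbee1ff5f7b10951d598340fbc2fff0be17fce6f3fffffffffffffffffffffffffffbefffffbfeffff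

-- part: H325/Same/ExcPair8
section
prune_inst 0x105441702202000004000202005ca393000190002b8001f10406060f8edd0189020720f0300e0091c6b2a45839406003100079420000002a003600411e00a080eb62822274af041c000f01a803190c00000000000000000000000000041000004010000
set_option linter.all false
open scoped Cfsg.Agent.FastGrp

/-!
# `E_6(q)`, `²E_6(q)`, classes 8 and 12 (helper325)

`charp_e6_812`: only `E_6(q)`, `F_4(q)`, `L_3(q^4)`; `charp_te6_812`: only `²E_6(q)`, `F_4(q)`, `L_3(q^4)`.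
-/

set_option autoImplicit false
set_option linter.unreachableTactic false
set_option maxHeartbeats 2000000

namespace Cfsg.Agent.H325.Same

open Cfsg.Agent.OrdDiv Cfsg.Agent.H436 Cfsg.Agent.H915.GN Cfsg.Agent.H264.GN Cfsg.Agent.H264.FKS

variable {p f c : ℕ} {g : Grp}

theorem elimP_e6_8_12 (hg : Cond g) (hch : HasChar p g) {i : ℕ} (hi : i ∈ [2, 5, 6, 8, 9, 12]) (hei : 12 ≤ i)
    (h2 : ag g * i ≤ 36 * Mg g) (h1 : ∃ x, Xg g x ∧ 8 * Mg g ∣ i * x) (h3 : ∃ x, Xg g x ∧ 12 * Mg g ∣ i * x)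
    (hY : ∀ k, (k = 4 ∨ k = 5 ∨ 7 ≤ k) → Yg g k → ∃ j, j ∈ [2, 5, 6, 8, 9, 12] ∧ i * k ∣ Mg g * j) :
    (i = 12 ∧ ∃ q, g = .e6 q) ∨ (i = 12 ∧ ∃ q, g = .f4 q) ∨ (i = 12 ∧ ∃ q, g = .psl 3 q) ∨ (i = 12 ∧ ∃ q, g = .psp 3 q) ∨ (i = 12 ∧ ∃ q, g = .oodd 3 q) ∨ (i = 12 ∧ ∃ q, g = .psu 4 q) ∨ (i = 12 ∧ ∃ q, g = .oplus 4 q) := by
  obtain ⟨x, hx, hxd⟩ := h1
  obtain ⟨y, hy, hyd⟩ := h3
  have hi2 : i = 12 := by
    simp only [List.mem_cons, List.not_mem_nil, or_false] at hi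
    omega
  clear hi hei
  rcases hi2 with rfl
  · have h2' : 2 * ag g ≤ 6 * Mg g := by omega
    clear h2
    cases g
    case psl m q =>
      obtain ⟨hm, -, -⟩ := hg
      have hb := bd_psl (ρ := 6) (by omega) h2'
      have hx' : 1 ≤ x ∧ x ≤ m := hx
      have hy' : 1 ≤ y ∧ y ≤ m := hy
      have hxd' : 8 * m ∣ 12 * x := hxd
      have hyd' : 12 * m ∣ 12 * y := hyd
      have hY5 : 5 ≤ m → 60 ∣ m * 2 ∨ 60 ∣ m * 5 ∨ 60 ∣ m * 6 ∨ 60 ∣ m * 8 ∨ 60 ∣ m * 9 ∨ 60 ∣ m * 12 := by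
        intro h
        obtain ⟨j, hj, hjd⟩ := hY 5 (by norm_num) (show 2 ≤ 5 ∧ 5 ≤ m from ⟨by norm_num, h⟩)
        have hjd' : 12 * 5 ∣ m * j := hjd
        simp only [List.mem_cons, List.not_mem_nil, or_false] at hj
        norm_num only at hjd'
        rcases hj with rfl | rfl | rfl | rfl | rfl | rfl <;> simp only [hjd', true_or, or_true]
      clear hx hy hxd hyd h2' hch hY
      interval_cases m <;> first | (exfalso; omega) | exact Or.inl ⟨rfl, q, rfl⟩ | exact Or.inr (Or.inl ⟨rfl, q, rfl⟩) | exact Or.inr (Or.inr (Or.inl ⟨rfl, q, rfl⟩)) | exact Or.inr (Or.inr (Or.inr (Or.inl ⟨rfl, q, rfl⟩))) | exact Or.inr (Or.inr (Or.inr (Or.inr (Or.inl ⟨rfl, q, rfl⟩)))) | exact Or.inr (Or.inr (Or.inr (Or.inr (Or.inr (Or.inl ⟨rfl, q, rfl⟩))))) | exact Or.inr (Or.inr (Or.inr (Or.inr (Or.inr (Or.inr (⟨rfl, q, rfl⟩))))))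
    case psp m q =>
      obtain ⟨hm, -, -⟩ := hg
      have hb := bd_psp (ρ := 6) (by omega) h2'
      have hx' : 1 ≤ x ∧ x ≤ 2 * m ∧ 2 ∣ x := hx
      have hy' : 1 ≤ y ∧ y ≤ 2 * m ∧ 2 ∣ y := hy
      have hxd' : 8 * (2 * m) ∣ 12 * x := hxd
      have hyd' : 12 * (2 * m) ∣ 12 * y := hyd
      have hY10 : 10 ≤ 2 * m → 120 ∣ (2 * m) * 2 ∨ 120 ∣ (2 * m) * 5 ∨ 120 ∣ (2 * m) * 6 ∨ 120 ∣ (2 * m) * 8 ∨ 120 ∣ (2 * m) * 9 ∨ 120 ∣ (2 * m) * 12 := by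
        intro h
        obtain ⟨j, hj, hjd⟩ := hY 10 (by norm_num) (show 1 ≤ 10 ∧ 10 ≤ 2 * m ∧ 2 ∣ 10 from ⟨by norm_num, h, by norm_num⟩)
        have hjd' : 12 * 10 ∣ (2 * m) * j := hjd
        simp only [List.mem_cons, List.not_mem_nil, or_false] at hj
        norm_num only at hjd'
        rcases hj with rfl | rfl | rfl | rfl | rfl | rfl <;> simp only [hjd', true_or, or_true]
      clear hx hy hxd hyd h2' hch hY
      interval_cases m <;> first | (exfalso; omega) | exact Or.inl ⟨rfl, q, rfl⟩ | exact Or.inr (Or.inl ⟨rfl, q, rfl⟩) | exact Or.inr (Or.inr (Or.inl ⟨rfl, q, rfl⟩)) | exact Or.inr (Or.inr (Or.inr (Or.inl ⟨rfl, q, rfl⟩))) | exact Or.inr (Or.inr (Or.inr (Or.inr (Or.inl ⟨rfl, q, rfl⟩)))) | exact Or.inr (Or.inr (Or.inr (Or.inr (Or.inr (Or.inl ⟨rfl, q, rfl⟩))))) | exact Or.inr (Or.inr (Or.inr (Or.inr (Or.inr (Or.inr (⟨rfl, q, rfl⟩))))))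
    case oodd m q =>
      obtain ⟨hm, -, -⟩ := hg
      have hb := bd_psp (ρ := 6) (by omega) h2'
      have hx' : 1 ≤ x ∧ x ≤ 2 * m ∧ 2 ∣ x := hx
      have hy' : 1 ≤ y ∧ y ≤ 2 * m ∧ 2 ∣ y := hy
      have hxd' : 8 * (2 * m) ∣ 12 * x := hxd
      have hyd' : 12 * (2 * m) ∣ 12 * y := hyd
      have hY10 : 10 ≤ 2 * m → 120 ∣ (2 * m) * 2 ∨ 120 ∣ (2 * m) * 5 ∨ 120 ∣ (2 * m) * 6 ∨ 120 ∣ (2 * m) * 8 ∨ 120 ∣ (2 * m) * 9 ∨ 120 ∣ (2 * m) * 12 := by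
        intro h
        obtain ⟨j, hj, hjd⟩ := hY 10 (by norm_num) (show 1 ≤ 10 ∧ 10 ≤ 2 * m ∧ 2 ∣ 10 from ⟨by norm_num, h, by norm_num⟩)
        have hjd' : 12 * 10 ∣ (2 * m) * j := hjd
        simp only [List.mem_cons, List.not_mem_nil, or_false] at hj
        norm_num only at hjd'
        rcases hj with rfl | rfl | rfl | rfl | rfl | rfl <;> simp only [hjd', true_or, or_true]
      clear hx hy hxd hyd h2' hch hY
      interval_cases m <;> first | (exfalso; clear * - hx' hxd' hY10; omega) | exact Or.inl ⟨rfl, q, rfl⟩ | exact Or.inr (Or.inl ⟨rfl, q, rfl⟩) | exact Or.inr (Or.inr (Or.inl ⟨rfl, q, rfl⟩)) | exact Or.inr (Or.inr (Or.inr (Or.inl ⟨rfl, q, rfl⟩))) | exact Or.inr (Or.inr (Or.inr (Or.inr (Or.inl ⟨rfl, q, rfl⟩)))) | exact Or.inr (Or.inr (Or.inr (Or.inr (Or.inr (Or.inl ⟨rfl, q, rfl⟩))))) | exact Or.inr (Or.inr (Or.inr (Or.inr (Or.inr (Or.inr (⟨rfl, q, rfl⟩))))))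
    case psu m q =>
      obtain ⟨hm, -, -⟩ := hg
      have hb := bd_psu (ρ := 6) hm h2'
      have hx' : (1 ≤ x ∧ x ≤ m ∧ 2 ∣ x) ∨ ∃ j, x = 2 * j ∧ j ≤ m ∧ j % 2 = 1 := hx
      have hy' : (1 ≤ y ∧ y ≤ m ∧ 2 ∣ y) ∨ ∃ j, y = 2 * j ∧ j ≤ m ∧ j % 2 = 1 := hy
      obtain ⟨k, hk⟩ : ∃ k, k = (if m % 2 = 0 then m - 1 else m) := ⟨_, rfl⟩
      have hk' : (m % 2 = 0 ∧ k = m - 1) ∨ (m % 2 = 1 ∧ k = m) := by
        rw [hk]
        split_ifs <;> (solve | lia | omega)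
      have hM : Mg (.psu m q) = 2 * k := by rw [hk]; rfl
      have hxd' : 8 * (2 * k) ∣ 12 * x := hM ▸ hxd
      have hyd' : 12 * (2 * k) ∣ 12 * y := hM ▸ hyd
      clear hx hy hxd hyd h2' hch hY hM hk
      rcases hk' with ⟨hk1, hk2⟩ | ⟨hk1, hk2⟩ <;> rcases hx' with hx' | ⟨j, rfl, hx'⟩ <;>
        rcases hy' with hy' | ⟨l, rfl, hy'⟩ <;> interval_cases m <;> subst hk2 <;> first | (exfalso; (solve | lia | omega)) | exact Or.inl ⟨rfl, q, rfl⟩ | exact Or.inr (Or.inl ⟨rfl, q, rfl⟩) | exact Or.inr (Or.inr (Or.inl ⟨rfl, q, rfl⟩)) | exact Or.inr (Or.inr (Or.inr (Or.inl ⟨rfl, q, rfl⟩))) | exact Or.inr (Or.inr (Or.inr (Or.inr (Or.inl ⟨rfl, q, rfl⟩)))) | exact Or.inr (Or.inr (Or.inr (Or.inr (Or.inr (Or.inl ⟨rfl, q, rfl⟩))))) | exact Or.inr (Or.inr (Or.inr (Or.inr (Or.inr (Or.inr (⟨rfl, q, rfl⟩))))))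
    case oplus m q =>
      obtain ⟨hm, -⟩ := hg
      have hb := bd_oplus (ρ := 6) (by omega) h2'
      have hx' : 1 ≤ x ∧ x ≤ 2 * (m - 1) ∧ (2 ∣ x ∨ x = m) := hx
      have hy' : 1 ≤ y ∧ y ≤ 2 * (m - 1) ∧ (2 ∣ y ∨ y = m) := hy
      have hxd' : 8 * (2 * (m - 1)) ∣ 12 * x := hxd
      have hyd' : 12 * (2 * (m - 1)) ∣ 12 * y := hyd
      clear hx hy hxd hyd h2' hch hY
      interval_cases m <;> first | (exfalso; omega) | exact Or.inl ⟨rfl, q, rfl⟩ | exact Or.inr (Or.inl ⟨rfl, q, rfl⟩) | exact Or.inr (Or.inr (Or.inl ⟨rfl, q, rfl⟩)) | exact Or.inr (Or.inr (Or.inr (Or.inl ⟨rfl, q, rfl⟩))) | exact Or.inr (Or.inr (Or.inr (Or.inr (Or.inl ⟨rfl, q, rfl⟩)))) | exact Or.inr (Or.inr (Or.inr (Or.inr (Or.inr (Or.inl ⟨rfl, q, rfl⟩))))) | exact Or.inr (Or.inr (Or.inr (Or.inr (Or.inr (Or.inr (⟨rfl, q, rfl⟩))))))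
    case ominus m q =>
      obtain ⟨hm, -⟩ := hg
      have hb := bd_ominus (ρ := 6) (by omega) h2'
      have hx' : 1 ≤ x ∧ x ≤ 2 * m ∧ 2 ∣ x := hx
      have hy' : 1 ≤ y ∧ y ≤ 2 * m ∧ 2 ∣ y := hy
      have hxd' : 8 * (2 * m) ∣ 12 * x := hxd
      have hyd' : 12 * (2 * m) ∣ 12 * y := hyd
      have hY10 : 10 ≤ 2 * m → 120 ∣ (2 * m) * 2 ∨ 120 ∣ (2 * m) * 5 ∨ 120 ∣ (2 * m) * 6 ∨ 120 ∣ (2 * m) * 8 ∨ 120 ∣ (2 * m) * 9 ∨ 120 ∣ (2 * m) * 12 := by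
        intro h
        obtain ⟨j, hj, hjd⟩ := hY 10 (by norm_num) (show 4 ≤ 10 ∧ 10 ≤ 2 * m ∧ 2 ∣ 10 from ⟨by norm_num, h, by norm_num⟩)
        have hjd' : 12 * 10 ∣ (2 * m) * j := hjd
        simp only [List.mem_cons, List.not_mem_nil, or_false] at hj
        norm_num only at hjd'
        rcases hj with rfl | rfl | rfl | rfl | rfl | rfl <;> simp only [hjd', true_or, or_true]
      clear hx hy hxd hyd h2' hch hY
      interval_cases m <;> first | (exfalso; clear * - hx' hxd' hY10; omega) | exact Or.inl ⟨rfl, q, rfl⟩ | exact Or.inr (Or.inl ⟨rfl, q, rfl⟩) | exact Or.inr (Or.inr (Or.inl ⟨rfl, q, rfl⟩)) | exact Or.inr (Or.inr (Or.inr (Or.inl ⟨rfl, q, rfl⟩))) | exact Or.inr (Or.inr (Or.inr (Or.inr (Or.inl ⟨rfl, q, rfl⟩)))) | exact Or.inr (Or.inr (Or.inr (Or.inr (Or.inr (Or.inl ⟨rfl, q, rfl⟩))))) | exact Or.inr (Or.inr (Or.inr (Or.inr (Or.inr (Or.inr (⟨rfl, q, rfl⟩))))))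
    case g2 q =>
      have hx' : x ∈ [2, 6] := hx
      have hy' : y ∈ [2, 6] := hy
      have hxd' : 8 * 6 ∣ 12 * x := hxd
      have hyd' : 12 * 6 ∣ 12 * y := hyd
      have h4 : 2 * 6 ≤ 6 * 6 := h2'
      simp only [List.mem_cons, List.not_mem_nil, or_false] at hx' hy'
      clear hx hy hxd hyd h2' hch hY
      first | (exfalso; clear * - hxd' hx' hy'; omega) | exact Or.inl ⟨rfl, q, rfl⟩ | exact Or.inr (Or.inl ⟨rfl, q, rfl⟩) | exact Or.inr (Or.inr (Or.inl ⟨rfl, q, rfl⟩)) | exact Or.inr (Or.inr (Or.inr (Or.inl ⟨rfl, q, rfl⟩))) | exact Or.inr (Or.inr (Or.inr (Or.inr (Or.inl ⟨rfl, q, rfl⟩)))) | exact Or.inr (Or.inr (Or.inr (Or.inr (Or.inr (Or.inl ⟨rfl, q, rfl⟩))))) | exact Or.inr (Or.inr (Or.inr (Or.inr (Or.inr (Or.inr (⟨rfl, q, rfl⟩))))))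
    case f4 q =>
      have hx' : x ∈ [2, 6, 8, 12] := hx
      have hy' : y ∈ [2, 6, 8, 12] := hy
      have hxd' : 8 * 12 ∣ 12 * x := hxd
      have hyd' : 12 * 12 ∣ 12 * y := hyd
      have h4 : 2 * 24 ≤ 6 * 12 := h2'
      simp only [List.mem_cons, List.not_mem_nil, or_false] at hx' hy'
      clear hx hy hxd hyd h2' hch hY
      first | fail | exact Or.inl ⟨rfl, q, rfl⟩ | exact Or.inr (Or.inl ⟨rfl, q, rfl⟩) | exact Or.inr (Or.inr (Or.inl ⟨rfl, q, rfl⟩)) | exact Or.inr (Or.inr (Or.inr (Or.inl ⟨rfl, q, rfl⟩))) | exact Or.inr (Or.inr (Or.inr (Or.inr (Or.inl ⟨rfl, q, rfl⟩)))) | exact Or.inr (Or.inr (Or.inr (Or.inr (Or.inr (Or.inl ⟨rfl, q, rfl⟩))))) | exact Or.inr (Or.inr (Or.inr (Or.inr (Or.inr (Or.inr (⟨rfl, q, rfl⟩))))))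
    case e6 q =>
      have hx' : x ∈ [2, 5, 6, 8, 9, 12] := hx
      have hy' : y ∈ [2, 5, 6, 8, 9, 12] := hy
      have hxd' : 8 * 12 ∣ 12 * x := hxd
      have hyd' : 12 * 12 ∣ 12 * y := hyd
      have h4 : 2 * 36 ≤ 6 * 12 := h2'
      simp only [List.mem_cons, List.not_mem_nil, or_false] at hx' hy'
      clear hx hy hxd hyd h2' hch hY
      first | (exfalso; omega) | exact Or.inl ⟨rfl, q, rfl⟩ | exact Or.inr (Or.inl ⟨rfl, q, rfl⟩) | exact Or.inr (Or.inr (Or.inl ⟨rfl, q, rfl⟩)) | exact Or.inr (Or.inr (Or.inr (Or.inl ⟨rfl, q, rfl⟩))) | exact Or.inr (Or.inr (Or.inr (Or.inr (Or.inl ⟨rfl, q, rfl⟩)))) | exact Or.inr (Or.inr (Or.inr (Or.inr (Or.inr (Or.inl ⟨rfl, q, rfl⟩))))) | exact Or.inr (Or.inr (Or.inr (Or.inr (Or.inr (Or.inr (⟨rfl, q, rfl⟩))))))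
    case e7 q =>
      have hx' : x ∈ [2, 6, 8, 10, 12, 14, 18] := hx
      have hy' : y ∈ [2, 6, 8, 10, 12, 14, 18] := hy
      have hxd' : 8 * 18 ∣ 12 * x := hxd
      have hyd' : 12 * 18 ∣ 12 * y := hyd
      have h4 : 2 * 63 ≤ 6 * 18 := h2'
      simp only [List.mem_cons, List.not_mem_nil, or_false] at hx' hy'
      clear hx hy hxd hyd h2' hch hY
      first | (exfalso; omega) | exact Or.inl ⟨rfl, q, rfl⟩ | exact Or.inr (Or.inl ⟨rfl, q, rfl⟩) | exact Or.inr (Or.inr (Or.inl ⟨rfl, q, rfl⟩)) | exact Or.inr (Or.inr (Or.inr (Or.inl ⟨rfl, q, rfl⟩))) | exact Or.inr (Or.inr (Or.inr (Or.inr (Or.inl ⟨rfl, q, rfl⟩)))) | exact Or.inr (Or.inr (Or.inr (Or.inr (Or.inr (Or.inl ⟨rfl, q, rfl⟩))))) | exact Or.inr (Or.inr (Or.inr (Or.inr (Or.inr (Or.inr (⟨rfl, q, rfl⟩))))))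
    case e8 q =>
      have hx' : x ∈ [2, 8, 12, 14, 18, 20, 24, 30] := hx
      have hy' : y ∈ [2, 8, 12, 14, 18, 20, 24, 30] := hy
      have hxd' : 8 * 30 ∣ 12 * x := hxd
      have hyd' : 12 * 30 ∣ 12 * y := hyd
      have h4 : 2 * 120 ≤ 6 * 30 := h2'
      simp only [List.mem_cons, List.not_mem_nil, or_false] at hx' hy'
      clear hx hy hxd hyd h2' hch hY
      first | (exfalso; omega) | exact Or.inl ⟨rfl, q, rfl⟩ | exact Or.inr (Or.inl ⟨rfl, q, rfl⟩) | exact Or.inr (Or.inr (Or.inl ⟨rfl, q, rfl⟩)) | exact Or.inr (Or.inr (Or.inr (Or.inl ⟨rfl, q, rfl⟩))) | exact Or.inr (Or.inr (Or.inr (Or.inr (Or.inl ⟨rfl, q, rfl⟩)))) | exact Or.inr (Or.inr (Or.inr (Or.inr (Or.inr (Or.inl ⟨rfl, q, rfl⟩))))) | exact Or.inr (Or.inr (Or.inr (Or.inr (Or.inr (Or.inr (⟨rfl, q, rfl⟩))))))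
    case te6 q =>
      have hx' : x ∈ [2, 10, 6, 8, 18, 12] := hx
      have hy' : y ∈ [2, 10, 6, 8, 18, 12] := hy
      have hxd' : 8 * 18 ∣ 12 * x := hxd
      have hyd' : 12 * 18 ∣ 12 * y := hyd
      have h4 : 2 * 36 ≤ 6 * 18 := h2'
      obtain ⟨j, hj, hjd⟩ := hY 8 (by norm_num) (show 8 ∈ [2, 3, 4, 6, 8, 10, 12, 18] by decide)
      have hjd' : 12 * 8 ∣ 18 * j := hjd
      simp only [List.mem_cons, List.not_mem_nil, or_false] at hj
      simp only [List.mem_cons, List.not_mem_nil, or_false] at hx' hy'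
      clear hx hy hxd hyd h2' hch hY
      first | (exfalso; clear * - hxd' hyd' hjd' hj; omega) | exact Or.inl ⟨rfl, q, rfl⟩ | exact Or.inr (Or.inl ⟨rfl, q, rfl⟩) | exact Or.inr (Or.inr (Or.inl ⟨rfl, q, rfl⟩)) | exact Or.inr (Or.inr (Or.inr (Or.inl ⟨rfl, q, rfl⟩))) | exact Or.inr (Or.inr (Or.inr (Or.inr (Or.inl ⟨rfl, q, rfl⟩)))) | exact Or.inr (Or.inr (Or.inr (Or.inr (Or.inr (Or.inl ⟨rfl, q, rfl⟩))))) | exact Or.inr (Or.inr (Or.inr (Or.inr (Or.inr (Or.inr (⟨rfl, q, rfl⟩))))))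
    case td4 q =>
      have hx' : x ∈ [2, 6, 12] := hx
      have hy' : y ∈ [2, 6, 12] := hy
      have hxd' : 8 * 12 ∣ 12 * x := hxd
      have hyd' : 12 * 12 ∣ 12 * y := hyd
      have h4 : 2 * 12 ≤ 6 * 12 := h2'
      simp only [List.mem_cons, List.not_mem_nil, or_false] at hx' hy'
      clear hx hy hxd hyd h2' hch hY
      first | (exfalso; clear * - hxd' hx'; omega) | exact Or.inl ⟨rfl, q, rfl⟩ | exact Or.inr (Or.inl ⟨rfl, q, rfl⟩) | exact Or.inr (Or.inr (Or.inl ⟨rfl, q, rfl⟩)) | exact Or.inr (Or.inr (Or.inr (Or.inl ⟨rfl, q, rfl⟩))) | exact Or.inr (Or.inr (Or.inr (Or.inr (Or.inl ⟨rfl, q, rfl⟩)))) | exact Or.inr (Or.inr (Or.inr (Or.inr (Or.inr (Or.inl ⟨rfl, q, rfl⟩))))) | exact Or.inr (Or.inr (Or.inr (Or.inr (Or.inr (Or.inr (⟨rfl, q, rfl⟩))))))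
    case sz q =>
      have hx' : x ∈ [1, 4] := hx
      have hy' : y ∈ [1, 4] := hy
      have hxd' : 8 * 4 ∣ 12 * x := hxd
      have hyd' : 12 * 4 ∣ 12 * y := hyd
      have h4 : 2 * 2 ≤ 6 * 4 := h2'
      simp only [List.mem_cons, List.not_mem_nil, or_false] at hx' hy'
      clear hx hy hxd hyd h2' hch hY
      first | (exfalso; clear * - hxd' hx'; omega) | exact Or.inl ⟨rfl, q, rfl⟩ | exact Or.inr (Or.inl ⟨rfl, q, rfl⟩) | exact Or.inr (Or.inr (Or.inl ⟨rfl, q, rfl⟩)) | exact Or.inr (Or.inr (Or.inr (Or.inl ⟨rfl, q, rfl⟩))) | exact Or.inr (Or.inr (Or.inr (Or.inr (Or.inl ⟨rfl, q, rfl⟩)))) | exact Or.inr (Or.inr (Or.inr (Or.inr (Or.inr (Or.inl ⟨rfl, q, rfl⟩))))) | exact Or.inr (Or.inr (Or.inr (Or.inr (Or.inr (Or.inr (⟨rfl, q, rfl⟩))))))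
    case ree q =>
      have hx' : x ∈ [1, 6] := hx
      have hy' : y ∈ [1, 6] := hy
      have hxd' : 8 * 6 ∣ 12 * x := hxd
      have hyd' : 12 * 6 ∣ 12 * y := hyd
      have h4 : 2 * 3 ≤ 6 * 6 := h2'
      simp only [List.mem_cons, List.not_mem_nil, or_false] at hx' hy'
      clear hx hy hxd hyd h2' hch hY
      first | (exfalso; clear * - hxd' hx' hy'; omega) | exact Or.inl ⟨rfl, q, rfl⟩ | exact Or.inr (Or.inl ⟨rfl, q, rfl⟩) | exact Or.inr (Or.inr (Or.inl ⟨rfl, q, rfl⟩)) | exact Or.inr (Or.inr (Or.inr (Or.inl ⟨rfl, q, rfl⟩))) | exact Or.inr (Or.inr (Or.inr (Or.inr (Or.inl ⟨rfl, q, rfl⟩)))) | exact Or.inr (Or.inr (Or.inr (Or.inr (Or.inr (Or.inl ⟨rfl, q, rfl⟩))))) | exact Or.inr (Or.inr (Or.inr (Or.inr (Or.inr (Or.inr (⟨rfl, q, rfl⟩))))))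
    case tf4 q =>
      have hx' : x ∈ [1, 6, 4, 12] := hx
      have hy' : y ∈ [1, 6, 4, 12] := hy
      have hxd' : 8 * 12 ∣ 12 * x := hxd
      have hyd' : 12 * 12 ∣ 12 * y := hyd
      have h4 : 2 * 12 ≤ 6 * 12 := h2'
      simp only [List.mem_cons, List.not_mem_nil, or_false] at hx' hy'
      clear hx hy hxd hyd h2' hch hY
      first | (exfalso; clear * - hxd' hx'; omega) | exact Or.inl ⟨rfl, q, rfl⟩ | exact Or.inr (Or.inl ⟨rfl, q, rfl⟩) | exact Or.inr (Or.inr (Or.inl ⟨rfl, q, rfl⟩)) | exact Or.inr (Or.inr (Or.inr (Or.inl ⟨rfl, q, rfl⟩))) | exact Or.inr (Or.inr (Or.inr (Or.inr (Or.inl ⟨rfl, q, rfl⟩)))) | exact Or.inr (Or.inr (Or.inr (Or.inr (Or.inr (Or.inl ⟨rfl, q, rfl⟩))))) | exact Or.inr (Or.inr (Or.inr (Or.inr (Or.inr (Or.inr (⟨rfl, q, rfl⟩))))))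
    all_goals exact absurd hch not_false

theorem elimP_te6_8_12 (hg : Cond g) (hch : HasChar p g) {i : ℕ} (hi : i ∈ [2, 10, 6, 8, 18, 12]) (hei : 12 ≤ i)
    (h2 : ag g * i ≤ 36 * Mg g) (h1 : ∃ x, Xg g x ∧ 8 * Mg g ∣ i * x) (h3 : ∃ x, Xg g x ∧ 12 * Mg g ∣ i * x)
    (hY : ∀ k, (k = 4 ∨ k = 5 ∨ 7 ≤ k) → Yg g k → ∃ j, j ∈ [2, 10, 6, 8, 18, 12] ∧ i * k ∣ Mg g * j) :
    (i = 18 ∧ ∃ q, g = .te6 q) ∨ (i = 12 ∧ ∃ q, g = .f4 q) ∨ (i = 12 ∧ ∃ q, g = .psl 3 q) ∨ (i = 12 ∧ ∃ q, g = .psp 3 q) ∨ (i = 12 ∧ ∃ q, g = .oodd 3 q) ∨ (i = 12 ∧ ∃ q, g = .psu 4 q) ∨ (i = 12 ∧ ∃ q, g = .oplus 4 q) ∨ (i = 12 ∧ ∃ q, g = .psl 6 q) ∨ (i = 12 ∧ ∃ q, g = .psp 6 q) ∨ (i = 12 ∧ ∃ q, g = .oodd 6 q) ∨ (i = 12 ∧ ∃ q, g = .ominus 6 q) ∨ (i = 12 ∧ ∃ q, g = .e6 q) := by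
  obtain ⟨x, hx, hxd⟩ := h1
  obtain ⟨y, hy, hyd⟩ := h3
  have hi2 : i = 18 ∨ i = 12 := by
    simp only [List.mem_cons, List.not_mem_nil, or_false] at hi
    omega
  clear hi hei
  rcases hi2 with rfl | rfl
  · have h2' : 2 * ag g ≤ 4 * Mg g := by omega
    clear h2
    cases g
    case psl m q =>
      obtain ⟨hm, -, -⟩ := hg
      have hb := bd_psl (ρ := 4) (by omega) h2'
      have hx' : 1 ≤ x ∧ x ≤ m := hx
      have hy' : 1 ≤ y ∧ y ≤ m := hy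
      have hxd' : 8 * m ∣ 18 * x := hxd
      have hyd' : 12 * m ∣ 18 * y := hyd
      clear hx hy hxd hyd h2' hch hY
      interval_cases m <;> first | (exfalso; omega) | exact Or.inl ⟨rfl, q, rfl⟩ | exact Or.inr (Or.inl ⟨rfl, q, rfl⟩) | exact Or.inr (Or.inr (Or.inl ⟨rfl, q, rfl⟩)) | exact Or.inr (Or.inr (Or.inr (Or.inl ⟨rfl, q, rfl⟩))) | exact Or.inr (Or.inr (Or.inr (Or.inr (Or.inl ⟨rfl, q, rfl⟩)))) | exact Or.inr (Or.inr (Or.inr (Or.inr (Or.inr (Or.inl ⟨rfl, q, rfl⟩))))) | exact Or.inr (Or.inr (Or.inr (Or.inr (Or.inr (Or.inr (Or.inl ⟨rfl, q, rfl⟩)))))) | exact Or.inr (Or.inr (Or.inr (Or.inr (Or.inr (Or.inr (Or.inr (Or.inl ⟨rfl, q, rfl⟩))))))) | exact Or.inr (Or.inr (Or.inr (Or.inr (Or.inr (Or.inr (Or.inr (Or.inr (Or.inl ⟨rfl, q, rfl⟩)))))))) | exact Or.inr (Or.inr (Or.inr (Or.inr (Or.inr (Or.inr (Or.inr (Or.inr (Or.inr (Or.inl ⟨rfl, q, rfl⟩))))))))) | exact Or.inr (Or.inr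 (Or.inr (Or.inr (Or.inr (Or.inr (Or.inr (Or.inr (Or.inr (Or.inr (Or.inl ⟨rfl, q, rfl⟩)))))))))) | exact Or.inr (Or.inr (Or.inr (Or.inr (Or.inr (Or.inr (Or.inr (Or.inr (Or.inr (Or.inr (Or.inr (⟨rfl, q, rfl⟩)))))))))))
    case psp m q =>
      obtain ⟨hm, -, -⟩ := hg
      have hb := bd_psp (ρ := 4) (by omega) h2'
      have hx' : 1 ≤ x ∧ x ≤ 2 * m ∧ 2 ∣ x := hx
      have hy' : 1 ≤ y ∧ y ≤ 2 * m ∧ 2 ∣ y := hy
      have hxd' : 8 * (2 * m) ∣ 18 * x := hxd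
      have hyd' : 12 * (2 * m) ∣ 18 * y := hyd
      clear hx hy hxd hyd h2' hch hY
      interval_cases m <;> first | (exfalso; omega) | exact Or.inl ⟨rfl, q, rfl⟩ | exact Or.inr (Or.inl ⟨rfl, q, rfl⟩) | exact Or.inr (Or.inr (Or.inl ⟨rfl, q, rfl⟩)) | exact Or.inr (Or.inr (Or.inr (Or.inl ⟨rfl, q, rfl⟩))) | exact Or.inr (Or.inr (Or.inr (Or.inr (Or.inl ⟨rfl, q, rfl⟩)))) | exact Or.inr (Or.inr (Or.inr (Or.inr (Or.inr (Or.inl ⟨rfl, q, rfl⟩))))) | exact Or.inr (Or.inr (Or.inr (Or.inr (Or.inr (Or.inr (Or.inl ⟨rfl, q, rfl⟩)))))) | exact Or.inr (Or.inr (Or.inr (Or.inr (Or.inr (Or.inr (Or.inr (Or.inl ⟨rfl, q, rfl⟩))))))) | exact Or.inr (Or.inr (Or.inr (Or.inr (Or.inr (Or.inr (Or.inr (Or.inr (Or.inl ⟨rfl, q, rfl⟩)))))))) | exact Or.inr (Or.inr (Or.inr (Or.inr (Or.inr (Or.inr (Or.inr (Or.inr (Or.inr (Or.inl ⟨rfl, q, rfl⟩))))))))) | exact Or.inr (Or.inr (Or.inr (Or.inr (Or.inr (Or.inr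 (Or.inr (Or.inr (Or.inr (Or.inr (Or.inl ⟨rfl, q, rfl⟩)))))))))) | exact Or.inr (Or.inr (Or.inr (Or.inr (Or.inr (Or.inr (Or.inr (Or.inr (Or.inr (Or.inr (Or.inr (⟨rfl, q, rfl⟩)))))))))))
    case oodd m q =>
      obtain ⟨hm, -, -⟩ := hg
      have hb := bd_psp (ρ := 4) (by omega) h2'
      have hx' : 1 ≤ x ∧ x ≤ 2 * m ∧ 2 ∣ x := hx
      have hy' : 1 ≤ y ∧ y ≤ 2 * m ∧ 2 ∣ y := hy
      have hxd' : 8 * (2 * m) ∣ 18 * x := hxd
      have hyd' : 12 * (2 * m) ∣ 18 * y := hyd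
      clear hx hy hxd hyd h2' hch hY
      interval_cases m <;> first | (exfalso; clear * - hx' hxd'; (solve | lia | omega)) | exact Or.inl ⟨rfl, q, rfl⟩ | exact Or.inr (Or.inl ⟨rfl, q, rfl⟩) | exact Or.inr (Or.inr (Or.inl ⟨rfl, q, rfl⟩)) | exact Or.inr (Or.inr (Or.inr (Or.inl ⟨rfl, q, rfl⟩))) | exact Or.inr (Or.inr (Or.inr (Or.inr (Or.inl ⟨rfl, q, rfl⟩)))) | exact Or.inr (Or.inr (Or.inr (Or.inr (Or.inr (Or.inl ⟨rfl, q, rfl⟩))))) | exact Or.inr (Or.inr (Or.inr (Or.inr (Or.inr (Or.inr (Or.inl ⟨rfl, q, rfl⟩)))))) | exact Or.inr (Or.inr (Or.inr (Or.inr (Or.inr (Or.inr (Or.inr (Or.inl ⟨rfl, q, rfl⟩))))))) | exact Or.inr (Or.inr (Or.inr (Or.inr (Or.inr (Or.inr (Or.inr (Or.inr (Or.inl ⟨rfl, q, rfl⟩)))))))) | exact Or.inr (Or.inr (Or.inr (Or.inr (Or.inr (Or.inr (Or.inr (Or.inr (Or.inr (Or.inl ⟨rfl, q, rfl⟩))))))))) | exact Or.inr (Or.inr (Or.inr (Or.inr (Or.inr (Or.inr (Or.inr (Or.inr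 (Or.inr (Or.inr (Or.inl ⟨rfl, q, rfl⟩)))))))))) | exact Or.inr (Or.inr (Or.inr (Or.inr (Or.inr (Or.inr (Or.inr (Or.inr (Or.inr (Or.inr (Or.inr (⟨rfl, q, rfl⟩)))))))))))
    case psu m q =>
      obtain ⟨hm, -, -⟩ := hg
      have hb := bd_psu (ρ := 4) hm h2'
      have hx' : (1 ≤ x ∧ x ≤ m ∧ 2 ∣ x) ∨ ∃ j, x = 2 * j ∧ j ≤ m ∧ j % 2 = 1 := hx
      have hy' : (1 ≤ y ∧ y ≤ m ∧ 2 ∣ y) ∨ ∃ j, y = 2 * j ∧ j ≤ m ∧ j % 2 = 1 := hy
      obtain ⟨k, hk⟩ : ∃ k, k = (if m % 2 = 0 then m - 1 else m) := ⟨_, rfl⟩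
      have hk' : (m % 2 = 0 ∧ k = m - 1) ∨ (m % 2 = 1 ∧ k = m) := by
        rw [hk]
        split_ifs <;> omega
      have hM : Mg (.psu m q) = 2 * k := by rw [hk]; rfl
      have hxd' : 8 * (2 * k) ∣ 18 * x := hM ▸ hxd
      have hyd' : 12 * (2 * k) ∣ 18 * y := hM ▸ hyd
      clear hx hy hxd hyd h2' hch hY hM hk
      rcases hk' with ⟨hk1, hk2⟩ | ⟨hk1, hk2⟩ <;> rcases hx' with hx' | ⟨j, rfl, hx'⟩ <;>
        rcases hy' with hy' | ⟨l, rfl, hy'⟩ <;> interval_cases m <;> subst hk2 <;> first | (exfalso; (solve | lia | omega)) | exact Or.inl ⟨rfl, q, rfl⟩ | exact Or.inr (Or.inl ⟨rfl, q, rfl⟩) | exact Or.inr (Or.inr (Or.inl ⟨rfl, q, rfl⟩)) | exact Or.inr (Or.inr (Or.inr (Or.inl ⟨rfl, q, rfl⟩))) | exact Or.inr (Or.inr (Or.inr (Or.inr (Or.inl ⟨rfl, q, rfl⟩)))) | exact Or.inr (Or.inr (Or.inr (Or.inr (Or.inr (Or.inl ⟨rfl, q, rfl⟩))))) | exact Or.inr (Or.inr (Or.inr (Or.inr (Or.inr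 (Or.inr (Or.inl ⟨rfl, q, rfl⟩)))))) | exact Or.inr (Or.inr (Or.inr (Or.inr (Or.inr (Or.inr (Or.inr (Or.inl ⟨rfl, q, rfl⟩))))))) | exact Or.inr (Or.inr (Or.inr (Or.inr (Or.inr (Or.inr (Or.inr (Or.inr (Or.inl ⟨rfl, q, rfl⟩)))))))) | exact Or.inr (Or.inr (Or.inr (Or.inr (Or.inr (Or.inr (Or.inr (Or.inr (Or.inr (Or.inl ⟨rfl, q, rfl⟩))))))))) | exact Or.inr (Or.inr (Or.inr (Or.inr (Or.inr (Or.inr (Or.inr (Or.inr (Or.inr (Or.inr (Or.inl ⟨rfl, q, rfl⟩)))))))))) | exact Or.inr (Or.inr (Or.inr (Or.inr (Or.inr (Or.inr (Or.inr (Or.inr (Or.inr (Or.inr (Or.inr (⟨rfl, q, rfl⟩)))))))))))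
    case oplus m q =>
      obtain ⟨hm, -⟩ := hg
      have hb := bd_oplus (ρ := 4) (by omega) h2'
      have hx' : 1 ≤ x ∧ x ≤ 2 * (m - 1) ∧ (2 ∣ x ∨ x = m) := hx
      have hy' : 1 ≤ y ∧ y ≤ 2 * (m - 1) ∧ (2 ∣ y ∨ y = m) := hy
      have hxd' : 8 * (2 * (m - 1)) ∣ 18 * x := hxd
      have hyd' : 12 * (2 * (m - 1)) ∣ 18 * y := hyd
      clear hx hy hxd hyd h2' hch hY
      interval_cases m <;> first | (exfalso; omega) | exact Or.inl ⟨rfl, q, rfl⟩ | exact Or.inr (Or.inl ⟨rfl, q, rfl⟩) | exact Or.inr (Or.inr (Or.inl ⟨rfl, q, rfl⟩)) | exact Or.inr (Or.inr (Or.inr (Or.inl ⟨rfl, q, rfl⟩))) | exact Or.inr (Or.inr (Or.inr (Or.inr (Or.inl ⟨rfl, q, rfl⟩)))) | exact Or.inr (Or.inr (Or.inr (Or.inr (Or.inr (Or.inl ⟨rfl, q, rfl⟩))))) | exact Or.inr (Or.inr (Or.inr (Or.inr (Or.inr (Or.inr (Or.inl ⟨rfl, q, rfl⟩)))))) | exact Or.inr (Or.inr (Or.inr (Or.inr (Or.inr (Or.inr (Or.inr (Or.inl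 ⟨rfl, q, rfl⟩))))))) | exact Or.inr (Or.inr (Or.inr (Or.inr (Or.inr (Or.inr (Or.inr (Or.inr (Or.inl ⟨rfl, q, rfl⟩)))))))) | exact Or.inr (Or.inr (Or.inr (Or.inr (Or.inr (Or.inr (Or.inr (Or.inr (Or.inr (Or.inl ⟨rfl, q, rfl⟩))))))))) | exact Or.inr (Or.inr (Or.inr (Or.inr (Or.inr (Or.inr (Or.inr (Or.inr (Or.inr (Or.inr (Or.inl ⟨rfl, q, rfl⟩)))))))))) | exact Or.inr (Or.inr (Or.inr (Or.inr (Or.inr (Or.inr (Or.inr (Or.inr (Or.inr (Or.inr (Or.inr (⟨rfl, q, rfl⟩)))))))))))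
    case ominus m q =>
      obtain ⟨hm, -⟩ := hg
      have hb := bd_ominus (ρ := 4) (by omega) h2'
      have hx' : 1 ≤ x ∧ x ≤ 2 * m ∧ 2 ∣ x := hx
      have hy' : 1 ≤ y ∧ y ≤ 2 * m ∧ 2 ∣ y := hy
      have hxd' : 8 * (2 * m) ∣ 18 * x := hxd
      have hyd' : 12 * (2 * m) ∣ 18 * y := hyd
      clear hx hy hxd hyd h2' hch hY
      interval_cases m <;> first | (exfalso; omega) | exact Or.inl ⟨rfl, q, rfl⟩ | exact Or.inr (Or.inl ⟨rfl, q, rfl⟩) | exact Or.inr (Or.inr (Or.inl ⟨rfl, q, rfl⟩)) | exact Or.inr (Or.inr (Or.inr (Or.inl ⟨rfl, q, rfl⟩))) | exact Or.inr (Or.inr (Or.inr (Or.inr (Or.inl ⟨rfl, q, rfl⟩)))) | exact Or.inr (Or.inr (Or.inr (Or.inr (Or.inr (Or.inl ⟨rfl, q, rfl⟩))))) | exact Or.inr (Or.inr (Or.inr (Or.inr (Or.inr (Or.inr (Or.inl ⟨rfl, q, rfl⟩)))))) | exact Or.inr (Or.inr (Or.inr (Or.inr (Or.inr (Or.inr (Or.inr (Or.inl ⟨rfl, q, rfl⟩))))))) | exact Or.inr (Or.inr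 (Or.inr (Or.inr (Or.inr (Or.inr (Or.inr (Or.inr (Or.inl ⟨rfl, q, rfl⟩)))))))) | exact Or.inr (Or.inr (Or.inr (Or.inr (Or.inr (Or.inr (Or.inr (Or.inr (Or.inr (Or.inl ⟨rfl, q, rfl⟩))))))))) | exact Or.inr (Or.inr (Or.inr (Or.inr (Or.inr (Or.inr (Or.inr (Or.inr (Or.inr (Or.inr (Or.inl ⟨rfl, q, rfl⟩)))))))))) | exact Or.inr (Or.inr (Or.inr (Or.inr (Or.inr (Or.inr (Or.inr (Or.inr (Or.inr (Or.inr (Or.inr (⟨rfl, q, rfl⟩)))))))))))
    case g2 q =>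
      have hx' : x ∈ [2, 6] := hx
      have hy' : y ∈ [2, 6] := hy
      have hxd' : 8 * 6 ∣ 18 * x := hxd
      have hyd' : 12 * 6 ∣ 18 * y := hyd
      have h4 : 2 * 6 ≤ 4 * 6 := h2'
      simp only [List.mem_cons, List.not_mem_nil, or_false] at hx' hy'
      clear hx hy hxd hyd h2' hch hY
      first | (exfalso; omega) | exact Or.inl ⟨rfl, q, rfl⟩ | exact Or.inr (Or.inl ⟨rfl, q, rfl⟩) | exact Or.inr (Or.inr (Or.inl ⟨rfl, q, rfl⟩)) | exact Or.inr (Or.inr (Or.inr (Or.inl ⟨rfl, q, rfl⟩))) | exact Or.inr (Or.inr (Or.inr (Or.inr (Or.inl ⟨rfl, q, rfl⟩)))) | exact Or.inr (Or.inr (Or.inr (Or.inr (Or.inr (Or.inl ⟨rfl, q, rfl⟩))))) | exact Or.inr (Or.inr (Or.inr (Or.inr (Or.inr (Or.inr (Or.inl ⟨rfl, q, rfl⟩)))))) | exact Or.inr (Or.inr (Or.inr (Or.inr (Or.inr (Or.inr (Or.inr (Or.inl ⟨rfl, q, rfl⟩))))))) | exact Or.inr (Or.inr (Or.inr (Or.inr (Or.inr (Or.inr (Or.inr (Or.inr (Or.inl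 ⟨rfl, q, rfl⟩)))))))) | exact Or.inr (Or.inr (Or.inr (Or.inr (Or.inr (Or.inr (Or.inr (Or.inr (Or.inr (Or.inl ⟨rfl, q, rfl⟩))))))))) | exact Or.inr (Or.inr (Or.inr (Or.inr (Or.inr (Or.inr (Or.inr (Or.inr (Or.inr (Or.inr (Or.inl ⟨rfl, q, rfl⟩)))))))))) | exact Or.inr (Or.inr (Or.inr (Or.inr (Or.inr (Or.inr (Or.inr (Or.inr (Or.inr (Or.inr (Or.inr (⟨rfl, q, rfl⟩)))))))))))
    case f4 q =>
      have hx' : x ∈ [2, 6, 8, 12] := hx
      have hy' : y ∈ [2, 6, 8, 12] := hy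
      have hxd' : 8 * 12 ∣ 18 * x := hxd
      have hyd' : 12 * 12 ∣ 18 * y := hyd
      have h4 : 2 * 24 ≤ 4 * 12 := h2'
      simp only [List.mem_cons, List.not_mem_nil, or_false] at hx' hy'
      clear hx hy hxd hyd h2' hch hY
      first | (exfalso; omega) | exact Or.inl ⟨rfl, q, rfl⟩ | exact Or.inr (Or.inl ⟨rfl, q, rfl⟩) | exact Or.inr (Or.inr (Or.inl ⟨rfl, q, rfl⟩)) | exact Or.inr (Or.inr (Or.inr (Or.inl ⟨rfl, q, rfl⟩))) | exact Or.inr (Or.inr (Or.inr (Or.inr (Or.inl ⟨rfl, q, rfl⟩)))) | exact Or.inr (Or.inr (Or.inr (Or.inr (Or.inr (Or.inl ⟨rfl, q, rfl⟩))))) | exact Or.inr (Or.inr (Or.inr (Or.inr (Or.inr (Or.inr (Or.inl ⟨rfl, q, rfl⟩)))))) | exact Or.inr (Or.inr (Or.inr (Or.inr (Or.inr (Or.inr (Or.inr (Or.inl ⟨rfl, q, rfl⟩))))))) | exact Or.inr (Or.inr (Or.inr (Or.inr (Or.inr (Or.inr (Or.inr (Or.inr (Or.inl ⟨rfl, q, rfl⟩)))))))) | exact Or.inr (Or.inr (Or.inr (Or.inr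 (Or.inr (Or.inr (Or.inr (Or.inr (Or.inr (Or.inl ⟨rfl, q, rfl⟩))))))))) | exact Or.inr (Or.inr (Or.inr (Or.inr (Or.inr (Or.inr (Or.inr (Or.inr (Or.inr (Or.inr (Or.inl ⟨rfl, q, rfl⟩)))))))))) | exact Or.inr (Or.inr (Or.inr (Or.inr (Or.inr (Or.inr (Or.inr (Or.inr (Or.inr (Or.inr (Or.inr (⟨rfl, q, rfl⟩)))))))))))
    case e6 q =>
      have hx' : x ∈ [2, 5, 6, 8, 9, 12] := hx
      have hy' : y ∈ [2, 5, 6, 8, 9, 12] := hy
      have hxd' : 8 * 12 ∣ 18 * x := hxd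
      have hyd' : 12 * 12 ∣ 18 * y := hyd
      have h4 : 2 * 36 ≤ 4 * 12 := h2'
      simp only [List.mem_cons, List.not_mem_nil, or_false] at hx' hy'
      clear hx hy hxd hyd h2' hch hY
      first | (exfalso; omega) | exact Or.inl ⟨rfl, q, rfl⟩ | exact Or.inr (Or.inl ⟨rfl, q, rfl⟩) | exact Or.inr (Or.inr (Or.inl ⟨rfl, q, rfl⟩)) | exact Or.inr (Or.inr (Or.inr (Or.inl ⟨rfl, q, rfl⟩))) | exact Or.inr (Or.inr (Or.inr (Or.inr (Or.inl ⟨rfl, q, rfl⟩)))) | exact Or.inr (Or.inr (Or.inr (Or.inr (Or.inr (Or.inl ⟨rfl, q, rfl⟩))))) | exact Or.inr (Or.inr (Or.inr (Or.inr (Or.inr (Or.inr (Or.inl ⟨rfl, q, rfl⟩)))))) | exact Or.inr (Or.inr (Or.inr (Or.inr (Or.inr (Or.inr (Or.inr (Or.inl ⟨rfl, q, rfl⟩))))))) | exact Or.inr (Or.inr (Or.inr (Or.inr (Or.inr (Or.inr (Or.inr (Or.inr (Or.inl ⟨rfl, q, rfl⟩)))))))) | exact Or.inr (Or.inr (Or.inr (Or.inr (Or.inr (Or.inr (Or.inr (Or.inr (Or.inr (Or.inl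 ⟨rfl, q, rfl⟩))))))))) | exact Or.inr (Or.inr (Or.inr (Or.inr (Or.inr (Or.inr (Or.inr (Or.inr (Or.inr (Or.inr (Or.inl ⟨rfl, q, rfl⟩)))))))))) | exact Or.inr (Or.inr (Or.inr (Or.inr (Or.inr (Or.inr (Or.inr (Or.inr (Or.inr (Or.inr (Or.inr (⟨rfl, q, rfl⟩)))))))))))
    case e7 q =>
      have hx' : x ∈ [2, 6, 8, 10, 12, 14, 18] := hx
      have hy' : y ∈ [2, 6, 8, 10, 12, 14, 18] := hy
      have hxd' : 8 * 18 ∣ 18 * x := hxd
      have hyd' : 12 * 18 ∣ 18 * y := hyd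
      have h4 : 2 * 63 ≤ 4 * 18 := h2'
      simp only [List.mem_cons, List.not_mem_nil, or_false] at hx' hy'
      clear hx hy hxd hyd h2' hch hY
      first | (exfalso; omega) | exact Or.inl ⟨rfl, q, rfl⟩ | exact Or.inr (Or.inl ⟨rfl, q, rfl⟩) | exact Or.inr (Or.inr (Or.inl ⟨rfl, q, rfl⟩)) | exact Or.inr (Or.inr (Or.inr (Or.inl ⟨rfl, q, rfl⟩))) | exact Or.inr (Or.inr (Or.inr (Or.inr (Or.inl ⟨rfl, q, rfl⟩)))) | exact Or.inr (Or.inr (Or.inr (Or.inr (Or.inr (Or.inl ⟨rfl, q, rfl⟩))))) | exact Or.inr (Or.inr (Or.inr (Or.inr (Or.inr (Or.inr (Or.inl ⟨rfl, q, rfl⟩)))))) | exact Or.inr (Or.inr (Or.inr (Or.inr (Or.inr (Or.inr (Or.inr (Or.inl ⟨rfl, q, rfl⟩))))))) | exact Or.inr (Or.inr (Or.inr (Or.inr (Or.inr (Or.inr (Or.inr (Or.inr (Or.inl ⟨rfl, q, rfl⟩)))))))) | exact Or.inr (Or.inr (Or.inr (Or.inr (Or.inr (Or.inr (Or.inr (Or.inr (Or.inr (Or.inl ⟨rfl, q, rfl⟩))))))))) | exact Or.inr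 (Or.inr (Or.inr (Or.inr (Or.inr (Or.inr (Or.inr (Or.inr (Or.inr (Or.inr (Or.inl ⟨rfl, q, rfl⟩)))))))))) | exact Or.inr (Or.inr (Or.inr (Or.inr (Or.inr (Or.inr (Or.inr (Or.inr (Or.inr (Or.inr (Or.inr (⟨rfl, q, rfl⟩)))))))))))
    case e8 q =>
      have hx' : x ∈ [2, 8, 12, 14, 18, 20, 24, 30] := hx
      have hy' : y ∈ [2, 8, 12, 14, 18, 20, 24, 30] := hy
      have hxd' : 8 * 30 ∣ 18 * x := hxd
      have hyd' : 12 * 30 ∣ 18 * y := hyd
      have h4 : 2 * 120 ≤ 4 * 30 := h2'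
      simp only [List.mem_cons, List.not_mem_nil, or_false] at hx' hy'
      clear hx hy hxd hyd h2' hch hY
      first | (exfalso; omega) | exact Or.inl ⟨rfl, q, rfl⟩ | exact Or.inr (Or.inl ⟨rfl, q, rfl⟩) | exact Or.inr (Or.inr (Or.inl ⟨rfl, q, rfl⟩)) | exact Or.inr (Or.inr (Or.inr (Or.inl ⟨rfl, q, rfl⟩))) | exact Or.inr (Or.inr (Or.inr (Or.inr (Or.inl ⟨rfl, q, rfl⟩)))) | exact Or.inr (Or.inr (Or.inr (Or.inr (Or.inr (Or.inl ⟨rfl, q, rfl⟩))))) | exact Or.inr (Or.inr (Or.inr (Or.inr (Or.inr (Or.inr (Or.inl ⟨rfl, q, rfl⟩)))))) | exact Or.inr (Or.inr (Or.inr (Or.inr (Or.inr (Or.inr (Or.inr (Or.inl ⟨rfl, q, rfl⟩))))))) | exact Or.inr (Or.inr (Or.inr (Or.inr (Or.inr (Or.inr (Or.inr (Or.inr (Or.inl ⟨rfl, q, rfl⟩)))))))) | exact Or.inr (Or.inr (Or.inr (Or.inr (Or.inr (Or.inr (Or.inr (Or.inr (Or.inr (Or.inl ⟨rfl, q, rfl⟩))))))))) | exact Or.inr (Or.inr (Or.inr (Or.inr (Or.inr (Or.inr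 (Or.inr (Or.inr (Or.inr (Or.inr (Or.inl ⟨rfl, q, rfl⟩)))))))))) | exact Or.inr (Or.inr (Or.inr (Or.inr (Or.inr (Or.inr (Or.inr (Or.inr (Or.inr (Or.inr (Or.inr (⟨rfl, q, rfl⟩)))))))))))
    case te6 q =>
      have hx' : x ∈ [2, 10, 6, 8, 18, 12] := hx
      have hy' : y ∈ [2, 10, 6, 8, 18, 12] := hy
      have hxd' : 8 * 18 ∣ 18 * x := hxd
      have hyd' : 12 * 18 ∣ 18 * y := hyd
      have h4 : 2 * 36 ≤ 4 * 18 := h2'
      obtain ⟨j, hj, hjd⟩ := hY 8 (by norm_num) (show 8 ∈ [2, 3, 4, 6, 8, 10, 12, 18] by decide)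
      have hjd' : 18 * 8 ∣ 18 * j := hjd
      simp only [List.mem_cons, List.not_mem_nil, or_false] at hj
      simp only [List.mem_cons, List.not_mem_nil, or_false] at hx' hy'
      clear hx hy hxd hyd h2' hch hY
      first | fail | exact Or.inl ⟨rfl, q, rfl⟩ | exact Or.inr (Or.inl ⟨rfl, q, rfl⟩) | exact Or.inr (Or.inr (Or.inl ⟨rfl, q, rfl⟩)) | exact Or.inr (Or.inr (Or.inr (Or.inl ⟨rfl, q, rfl⟩))) | exact Or.inr (Or.inr (Or.inr (Or.inr (Or.inl ⟨rfl, q, rfl⟩)))) | exact Or.inr (Or.inr (Or.inr (Or.inr (Or.inr (Or.inl ⟨rfl, q, rfl⟩))))) | exact Or.inr (Or.inr (Or.inr (Or.inr (Or.inr (Or.inr (Or.inl ⟨rfl, q, rfl⟩)))))) | exact Or.inr (Or.inr (Or.inr (Or.inr (Or.inr (Or.inr (Or.inr (Or.inl ⟨rfl, q, rfl⟩))))))) | exact Or.inr (Or.inr (Or.inr (Or.inr (Or.inr (Or.inr (Or.inr (Or.inr (Or.inl ⟨rfl, q, rfl⟩)))))))) | exact Or.inr (Or.inr (Or.inr (Or.inr (Or.inr (Or.inr (Or.inr (Or.inr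 (Or.inr (Or.inl ⟨rfl, q, rfl⟩))))))))) | exact Or.inr (Or.inr (Or.inr (Or.inr (Or.inr (Or.inr (Or.inr (Or.inr (Or.inr (Or.inr (Or.inl ⟨rfl, q, rfl⟩)))))))))) | exact Or.inr (Or.inr (Or.inr (Or.inr (Or.inr (Or.inr (Or.inr (Or.inr (Or.inr (Or.inr (Or.inr (⟨rfl, q, rfl⟩)))))))))))
    case td4 q =>
      have hx' : x ∈ [2, 6, 12] := hx
      have hy' : y ∈ [2, 6, 12] := hy
      have hxd' : 8 * 12 ∣ 18 * x := hxd
      have hyd' : 12 * 12 ∣ 18 * y := hyd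
      have h4 : 2 * 12 ≤ 4 * 12 := h2'
      simp only [List.mem_cons, List.not_mem_nil, or_false] at hx' hy'
      clear hx hy hxd hyd h2' hch hY
      first | (exfalso; omega) | exact Or.inl ⟨rfl, q, rfl⟩ | exact Or.inr (Or.inl ⟨rfl, q, rfl⟩) | exact Or.inr (Or.inr (Or.inl ⟨rfl, q, rfl⟩)) | exact Or.inr (Or.inr (Or.inr (Or.inl ⟨rfl, q, rfl⟩))) | exact Or.inr (Or.inr (Or.inr (Or.inr (Or.inl ⟨rfl, q, rfl⟩)))) | exact Or.inr (Or.inr (Or.inr (Or.inr (Or.inr (Or.inl ⟨rfl, q, rfl⟩))))) | exact Or.inr (Or.inr (Or.inr (Or.inr (Or.inr (Or.inr (Or.inl ⟨rfl, q, rfl⟩)))))) | exact Or.inr (Or.inr (Or.inr (Or.inr (Or.inr (Or.inr (Or.inr (Or.inl ⟨rfl, q, rfl⟩))))))) | exact Or.inr (Or.inr (Or.inr (Or.inr (Or.inr (Or.inr (Or.inr (Or.inr (Or.inl ⟨rfl, q, rfl⟩)))))))) | exact Or.inr (Or.inr (Or.inr (Or.inr (Or.inr (Or.inr (Or.inr (Or.inr (Or.inr (Or.inl ⟨rfl, q, rfl⟩))))))))) | exact Or.inr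 (Or.inr (Or.inr (Or.inr (Or.inr (Or.inr (Or.inr (Or.inr (Or.inr (Or.inr (Or.inl ⟨rfl, q, rfl⟩)))))))))) | exact Or.inr (Or.inr (Or.inr (Or.inr (Or.inr (Or.inr (Or.inr (Or.inr (Or.inr (Or.inr (Or.inr (⟨rfl, q, rfl⟩)))))))))))
    case sz q =>
      have hx' : x ∈ [1, 4] := hx
      have hy' : y ∈ [1, 4] := hy
      have hxd' : 8 * 4 ∣ 18 * x := hxd
      have hyd' : 12 * 4 ∣ 18 * y := hyd
      have h4 : 2 * 2 ≤ 4 * 4 := h2'
      simp only [List.mem_cons, List.not_mem_nil, or_false] at hx' hy'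
      clear hx hy hxd hyd h2' hch hY
      first | (exfalso; clear * - hyd' hy'; omega) | exact Or.inl ⟨rfl, q, rfl⟩ | exact Or.inr (Or.inl ⟨rfl, q, rfl⟩) | exact Or.inr (Or.inr (Or.inl ⟨rfl, q, rfl⟩)) | exact Or.inr (Or.inr (Or.inr (Or.inl ⟨rfl, q, rfl⟩))) | exact Or.inr (Or.inr (Or.inr (Or.inr (Or.inl ⟨rfl, q, rfl⟩)))) | exact Or.inr (Or.inr (Or.inr (Or.inr (Or.inr (Or.inl ⟨rfl, q, rfl⟩))))) | exact Or.inr (Or.inr (Or.inr (Or.inr (Or.inr (Or.inr (Or.inl ⟨rfl, q, rfl⟩)))))) | exact Or.inr (Or.inr (Or.inr (Or.inr (Or.inr (Or.inr (Or.inr (Or.inl ⟨rfl, q, rfl⟩))))))) | exact Or.inr (Or.inr (Or.inr (Or.inr (Or.inr (Or.inr (Or.inr (Or.inr (Or.inl ⟨rfl, q, rfl⟩)))))))) | exact Or.inr (Or.inr (Or.inr (Or.inr (Or.inr (Or.inr (Or.inr (Or.inr (Or.inr (Or.inl ⟨rfl, q, rfl⟩))))))))) | exact Or.inr (Or.inr (Or.inr (Or.inr (Or.inr (Or.inr (Or.inr (Or.inr (Or.inr (Or.inr (Or.inl ⟨rfl, q,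 rfl⟩)))))))))) | exact Or.inr (Or.inr (Or.inr (Or.inr (Or.inr (Or.inr (Or.inr (Or.inr (Or.inr (Or.inr (Or.inr (⟨rfl, q, rfl⟩)))))))))))
    case ree q =>
      have hx' : x ∈ [1, 6] := hx
      have hy' : y ∈ [1, 6] := hy
      have hxd' : 8 * 6 ∣ 18 * x := hxd
      have hyd' : 12 * 6 ∣ 18 * y := hyd
      have h4 : 2 * 3 ≤ 4 * 6 := h2'
      simp only [List.mem_cons, List.not_mem_nil, or_false] at hx' hy'
      clear hx hy hxd hyd h2' hch hY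
      first | (exfalso; omega) | exact Or.inl ⟨rfl, q, rfl⟩ | exact Or.inr (Or.inl ⟨rfl, q, rfl⟩) | exact Or.inr (Or.inr (Or.inl ⟨rfl, q, rfl⟩)) | exact Or.inr (Or.inr (Or.inr (Or.inl ⟨rfl, q, rfl⟩))) | exact Or.inr (Or.inr (Or.inr (Or.inr (Or.inl ⟨rfl, q, rfl⟩)))) | exact Or.inr (Or.inr (Or.inr (Or.inr (Or.inr (Or.inl ⟨rfl, q, rfl⟩))))) | exact Or.inr (Or.inr (Or.inr (Or.inr (Or.inr (Or.inr (Or.inl ⟨rfl, q, rfl⟩)))))) | exact Or.inr (Or.inr (Or.inr (Or.inr (Or.inr (Or.inr (Or.inr (Or.inl ⟨rfl, q, rfl⟩))))))) | exact Or.inr (Or.inr (Or.inr (Or.inr (Or.inr (Or.inr (Or.inr (Or.inr (Or.inl ⟨rfl, q, rfl⟩)))))))) | exact Or.inr (Or.inr (Or.inr (Or.inr (Or.inr (Or.inr (Or.inr (Or.inr (Or.inr (Or.inl ⟨rfl, q, rfl⟩))))))))) | exact Or.inr (Or.inr (Or.inr (Or.inr (Or.inr (Or.inr (Or.inr (Or.inr (Or.inr (Or.inr (Or.inl ⟨rfl, q, rfl⟩)))))))))) | exact Or.inr (Or.inr (Or.inr (Or.inr (Or.inr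 (Or.inr (Or.inr (Or.inr (Or.inr (Or.inr (Or.inr (⟨rfl, q, rfl⟩)))))))))))
    case tf4 q =>
      have hx' : x ∈ [1, 6, 4, 12] := hx
      have hy' : y ∈ [1, 6, 4, 12] := hy
      have hxd' : 8 * 12 ∣ 18 * x := hxd
      have hyd' : 12 * 12 ∣ 18 * y := hyd
      have h4 : 2 * 12 ≤ 4 * 12 := h2'
      simp only [List.mem_cons, List.not_mem_nil, or_false] at hx' hy'
      clear hx hy hxd hyd h2' hch hY
      first | (exfalso; omega) | exact Or.inl ⟨rfl, q, rfl⟩ | exact Or.inr (Or.inl ⟨rfl, q, rfl⟩) | exact Or.inr (Or.inr (Or.inl ⟨rfl, q, rfl⟩)) | exact Or.inr (Or.inr (Or.inr (Or.inl ⟨rfl, q, rfl⟩))) | exact Or.inr (Or.inr (Or.inr (Or.inr (Or.inl ⟨rfl, q, rfl⟩)))) | exact Or.inr (Or.inr (Or.inr (Or.inr (Or.inr (Or.inl ⟨rfl, q, rfl⟩))))) | exact Or.inr (Or.inr (Or.inr (Or.inr (Or.inr (Or.inr (Or.inl ⟨rfl, q, rfl⟩)))))) | exact Or.inr (Or.inr (Or.inr (Or.inr (Or.inr (Or.inr (Or.inr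 (Or.inl ⟨rfl, q, rfl⟩))))))) | exact Or.inr (Or.inr (Or.inr (Or.inr (Or.inr (Or.inr (Or.inr (Or.inr (Or.inl ⟨rfl, q, rfl⟩)))))))) | exact Or.inr (Or.inr (Or.inr (Or.inr (Or.inr (Or.inr (Or.inr (Or.inr (Or.inr (Or.inl ⟨rfl, q, rfl⟩))))))))) | exact Or.inr (Or.inr (Or.inr (Or.inr (Or.inr (Or.inr (Or.inr (Or.inr (Or.inr (Or.inr (Or.inl ⟨rfl, q, rfl⟩)))))))))) | exact Or.inr (Or.inr (Or.inr (Or.inr (Or.inr (Or.inr (Or.inr (Or.inr (Or.inr (Or.inr (Or.inr (⟨rfl, q, rfl⟩)))))))))))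
    all_goals exact absurd hch not_false
  · have h2' : 2 * ag g ≤ 6 * Mg g := by omega
    clear h2
    cases g
    case psl m q =>
      obtain ⟨hm, -, -⟩ := hg
      have hb := bd_psl (ρ := 6) (by omega) h2'
      have hx' : 1 ≤ x ∧ x ≤ m := hx
      have hy' : 1 ≤ y ∧ y ≤ m := hy
      have hxd' : 8 * m ∣ 12 * x := hxd
      have hyd' : 12 * m ∣ 12 * y := hyd
      clear hx hy hxd hyd h2' hch hY
      interval_cases m <;> first | (exfalso; omega) | exact Or.inl ⟨rfl, q, rfl⟩ | exact Or.inr (Or.inl ⟨rfl, q, rfl⟩) | exact Or.inr (Or.inr (Or.inl ⟨rfl, q, rfl⟩)) | exact Or.inr (Or.inr (Or.inr (Or.inl ⟨rfl, q, rfl⟩))) | exact Or.inr (Or.inr (Or.inr (Or.inr (Or.inl ⟨rfl, q, rfl⟩)))) | exact Or.inr (Or.inr (Or.inr (Or.inr (Or.inr (Or.inl ⟨rfl, q, rfl⟩))))) | exact Or.inr (Or.inr (Or.inr (Or.inr (Or.inr (Or.inr (Or.inl ⟨rfl, q, rfl⟩)))))) | exact Or.inr (Or.inr (Or.inr (Or.inr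 (Or.inr (Or.inr (Or.inr (Or.inl ⟨rfl, q, rfl⟩))))))) | exact Or.inr (Or.inr (Or.inr (Or.inr (Or.inr (Or.inr (Or.inr (Or.inr (Or.inl ⟨rfl, q, rfl⟩)))))))) | exact Or.inr (Or.inr (Or.inr (Or.inr (Or.inr (Or.inr (Or.inr (Or.inr (Or.inr (Or.inl ⟨rfl, q, rfl⟩))))))))) | exact Or.inr (Or.inr (Or.inr (Or.inr (Or.inr (Or.inr (Or.inr (Or.inr (Or.inr (Or.inr (Or.inl ⟨rfl, q, rfl⟩)))))))))) | exact Or.inr (Or.inr (Or.inr (Or.inr (Or.inr (Or.inr (Or.inr (Or.inr (Or.inr (Or.inr (Or.inr (⟨rfl, q, rfl⟩)))))))))))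
    case psp m q =>
      obtain ⟨hm, -, -⟩ := hg
      have hb := bd_psp (ρ := 6) (by omega) h2'
      have hx' : 1 ≤ x ∧ x ≤ 2 * m ∧ 2 ∣ x := hx
      have hy' : 1 ≤ y ∧ y ≤ 2 * m ∧ 2 ∣ y := hy
      have hxd' : 8 * (2 * m) ∣ 12 * x := hxd
      have hyd' : 12 * (2 * m) ∣ 12 * y := hyd
      clear hx hy hxd hyd h2' hch hY
      interval_cases m <;> first | (exfalso; omega) | exact Or.inl ⟨rfl, q, rfl⟩ | exact Or.inr (Or.inl ⟨rfl, q, rfl⟩) | exact Or.inr (Or.inr (Or.inl ⟨rfl, q, rfl⟩)) | exact Or.inr (Or.inr (Or.inr (Or.inl ⟨rfl, q, rfl⟩))) | exact Or.inr (Or.inr (Or.inr (Or.inr (Or.inl ⟨rfl, q, rfl⟩)))) | exact Or.inr (Or.inr (Or.inr (Or.inr (Or.inr (Or.inl ⟨rfl, q, rfl⟩))))) | exact Or.inr (Or.inr (Or.inr (Or.inr (Or.inr (Or.inr (Or.inl ⟨rfl, q, rfl⟩)))))) | exact Or.inr (Or.inr (Or.inr (Or.inr (Or.inr (Or.inr (Or.inr (Or.inl ⟨rfl, q, rfl⟩))))))) | exact Or.inr (Or.inr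 (Or.inr (Or.inr (Or.inr (Or.inr (Or.inr (Or.inr (Or.inl ⟨rfl, q, rfl⟩)))))))) | exact Or.inr (Or.inr (Or.inr (Or.inr (Or.inr (Or.inr (Or.inr (Or.inr (Or.inr (Or.inl ⟨rfl, q, rfl⟩))))))))) | exact Or.inr (Or.inr (Or.inr (Or.inr (Or.inr (Or.inr (Or.inr (Or.inr (Or.inr (Or.inr (Or.inl ⟨rfl, q, rfl⟩)))))))))) | exact Or.inr (Or.inr (Or.inr (Or.inr (Or.inr (Or.inr (Or.inr (Or.inr (Or.inr (Or.inr (Or.inr (⟨rfl, q, rfl⟩)))))))))))
    case oodd m q =>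
      obtain ⟨hm, -, -⟩ := hg
      have hb := bd_psp (ρ := 6) (by omega) h2'
      have hx' : 1 ≤ x ∧ x ≤ 2 * m ∧ 2 ∣ x := hx
      have hy' : 1 ≤ y ∧ y ≤ 2 * m ∧ 2 ∣ y := hy
      have hxd' : 8 * (2 * m) ∣ 12 * x := hxd
      have hyd' : 12 * (2 * m) ∣ 12 * y := hyd
      clear hx hy hxd hyd h2' hch hY
      interval_cases m <;> first | (exfalso; clear * - hx' hxd'; omega) | exact Or.inl ⟨rfl, q, rfl⟩ | exact Or.inr (Or.inl ⟨rfl, q, rfl⟩) | exact Or.inr (Or.inr (Or.inl ⟨rfl, q, rfl⟩)) | exact Or.inr (Or.inr (Or.inr (Or.inl ⟨rfl, q, rfl⟩))) | exact Or.inr (Or.inr (Or.inr (Or.inr (Or.inl ⟨rfl, q, rfl⟩)))) | exact Or.inr (Or.inr (Or.inr (Or.inr (Or.inr (Or.inl ⟨rfl, q, rfl⟩))))) | exact Or.inr (Or.inr (Or.inr (Or.inr (Or.inr (Or.inr (Or.inl ⟨rfl, q, rfl⟩)))))) | exact Or.inr (Or.inr (Or.inr (Or.inr (Or.inr (Or.inr (Or.inr (Or.inl ⟨rfl, q, rfl⟩))))))) | exact Or.inr (Or.inr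 (Or.inr (Or.inr (Or.inr (Or.inr (Or.inr (Or.inr (Or.inl ⟨rfl, q, rfl⟩)))))))) | exact Or.inr (Or.inr (Or.inr (Or.inr (Or.inr (Or.inr (Or.inr (Or.inr (Or.inr (Or.inl ⟨rfl, q, rfl⟩))))))))) | exact Or.inr (Or.inr (Or.inr (Or.inr (Or.inr (Or.inr (Or.inr (Or.inr (Or.inr (Or.inr (Or.inl ⟨rfl, q, rfl⟩)))))))))) | exact Or.inr (Or.inr (Or.inr (Or.inr (Or.inr (Or.inr (Or.inr (Or.inr (Or.inr (Or.inr (Or.inr (⟨rfl, q, rfl⟩)))))))))))
    case psu m q =>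
      obtain ⟨hm, -, -⟩ := hg
      have hb := bd_psu (ρ := 6) hm h2'
      have hx' : (1 ≤ x ∧ x ≤ m ∧ 2 ∣ x) ∨ ∃ j, x = 2 * j ∧ j ≤ m ∧ j % 2 = 1 := hx
      have hy' : (1 ≤ y ∧ y ≤ m ∧ 2 ∣ y) ∨ ∃ j, y = 2 * j ∧ j ≤ m ∧ j % 2 = 1 := hy
      obtain ⟨k, hk⟩ : ∃ k, k = (if m % 2 = 0 then m - 1 else m) := ⟨_, rfl⟩
      have hk' : (m % 2 = 0 ∧ k = m - 1) ∨ (m % 2 = 1 ∧ k = m) := by
        rw [hk]
        split_ifs <;> omega
      have hM : Mg (.psu m q) = 2 * k := by rw [hk]; rfl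
      have hxd' : 8 * (2 * k) ∣ 12 * x := hM ▸ hxd
      have hyd' : 12 * (2 * k) ∣ 12 * y := hM ▸ hyd
      clear hx hy hxd hyd h2' hch hY hM hk
      rcases hk' with ⟨hk1, hk2⟩ | ⟨hk1, hk2⟩ <;> rcases hx' with hx' | ⟨j, rfl, hx'⟩ <;>
        rcases hy' with hy' | ⟨l, rfl, hy'⟩ <;> interval_cases m <;> subst hk2 <;> first | (exfalso; omega) | exact Or.inl ⟨rfl, q, rfl⟩ | exact Or.inr (Or.inl ⟨rfl, q, rfl⟩) | exact Or.inr (Or.inr (Or.inl ⟨rfl, q, rfl⟩)) | exact Or.inr (Or.inr (Or.inr (Or.inl ⟨rfl, q, rfl⟩))) | exact Or.inr (Or.inr (Or.inr (Or.inr (Or.inl ⟨rfl, q, rfl⟩)))) | exact Or.inr (Or.inr (Or.inr (Or.inr (Or.inr (Or.inl ⟨rfl, q, rfl⟩))))) | exact Or.inr (Or.inr (Or.inr (Or.inr (Or.inr (Or.inr (Or.inl ⟨rfl, q, rfl⟩)))))) | exact Or.inr (Or.inr (Or.inr (Or.inr (Or.inr (Or.inr (Or.inr (Or.inl ⟨rfl, q, rfl⟩))))))) | exact Or.inr (Or.inr (Or.inr (Or.inr (Or.inr (Or.inr (Or.inr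 (Or.inr (Or.inl ⟨rfl, q, rfl⟩)))))))) | exact Or.inr (Or.inr (Or.inr (Or.inr (Or.inr (Or.inr (Or.inr (Or.inr (Or.inr (Or.inl ⟨rfl, q, rfl⟩))))))))) | exact Or.inr (Or.inr (Or.inr (Or.inr (Or.inr (Or.inr (Or.inr (Or.inr (Or.inr (Or.inr (Or.inl ⟨rfl, q, rfl⟩)))))))))) | exact Or.inr (Or.inr (Or.inr (Or.inr (Or.inr (Or.inr (Or.inr (Or.inr (Or.inr (Or.inr (Or.inr (⟨rfl, q, rfl⟩)))))))))))
    case oplus m q =>
      obtain ⟨hm, -⟩ := hg
      have hb := bd_oplus (ρ := 6) (by omega) h2'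
      have hx' : 1 ≤ x ∧ x ≤ 2 * (m - 1) ∧ (2 ∣ x ∨ x = m) := hx
      have hy' : 1 ≤ y ∧ y ≤ 2 * (m - 1) ∧ (2 ∣ y ∨ y = m) := hy
      have hxd' : 8 * (2 * (m - 1)) ∣ 12 * x := hxd
      have hyd' : 12 * (2 * (m - 1)) ∣ 12 * y := hyd
      clear hx hy hxd hyd h2' hch hY
      interval_cases m <;> first | (exfalso; omega) | exact Or.inl ⟨rfl, q, rfl⟩ | exact Or.inr (Or.inl ⟨rfl, q, rfl⟩) | exact Or.inr (Or.inr (Or.inl ⟨rfl, q, rfl⟩)) | exact Or.inr (Or.inr (Or.inr (Or.inl ⟨rfl, q, rfl⟩))) | exact Or.inr (Or.inr (Or.inr (Or.inr (Or.inl ⟨rfl, q, rfl⟩)))) | exact Or.inr (Or.inr (Or.inr (Or.inr (Or.inr (Or.inl ⟨rfl, q, rfl⟩))))) | exact Or.inr (Or.inr (Or.inr (Or.inr (Or.inr (Or.inr (Or.inl ⟨rfl, q, rfl⟩)))))) | exact Or.inr (Or.inr (Or.inr (Or.inr (Or.inr (Or.inr (Or.inr (Or.inl ⟨rfl, q, rfl⟩))))))) | exact Or.inr (Or.inr (Or.inr (Or.inr (Or.inr (Or.inr (Or.inr (Or.inr (Or.inl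 ⟨rfl, q, rfl⟩)))))))) | exact Or.inr (Or.inr (Or.inr (Or.inr (Or.inr (Or.inr (Or.inr (Or.inr (Or.inr (Or.inl ⟨rfl, q, rfl⟩))))))))) | exact Or.inr (Or.inr (Or.inr (Or.inr (Or.inr (Or.inr (Or.inr (Or.inr (Or.inr (Or.inr (Or.inl ⟨rfl, q, rfl⟩)))))))))) | exact Or.inr (Or.inr (Or.inr (Or.inr (Or.inr (Or.inr (Or.inr (Or.inr (Or.inr (Or.inr (Or.inr (⟨rfl, q, rfl⟩)))))))))))
    case ominus m q =>
      obtain ⟨hm, -⟩ := hg
      have hb := bd_ominus (ρ := 6) (by omega) h2'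
      have hx' : 1 ≤ x ∧ x ≤ 2 * m ∧ 2 ∣ x := hx
      have hy' : 1 ≤ y ∧ y ≤ 2 * m ∧ 2 ∣ y := hy
      have hxd' : 8 * (2 * m) ∣ 12 * x := hxd
      have hyd' : 12 * (2 * m) ∣ 12 * y := hyd
      clear hx hy hxd hyd h2' hch hY
      interval_cases m <;> first | (exfalso; clear * - hx' hxd'; omega) | exact Or.inl ⟨rfl, q, rfl⟩ | exact Or.inr (Or.inl ⟨rfl, q, rfl⟩) | exact Or.inr (Or.inr (Or.inl ⟨rfl, q, rfl⟩)) | exact Or.inr (Or.inr (Or.inr (Or.inl ⟨rfl, q, rfl⟩))) | exact Or.inr (Or.inr (Or.inr (Or.inr (Or.inl ⟨rfl, q, rfl⟩)))) | exact Or.inr (Or.inr (Or.inr (Or.inr (Or.inr (Or.inl ⟨rfl, q, rfl⟩))))) | exact Or.inr (Or.inr (Or.inr (Or.inr (Or.inr (Or.inr (Or.inl ⟨rfl, q, rfl⟩)))))) | exact Or.inr (Or.inr (Or.inr (Or.inr (Or.inr (Or.inr (Or.inr (Or.inl ⟨rfl, q, rfl⟩))))))) | exact Or.inr (Or.inr (Or.inr (Or.inr (Or.inr (Or.inr (Or.inr (Or.inr (Or.inl ⟨rfl, q, rfl⟩))))))))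 | exact Or.inr (Or.inr (Or.inr (Or.inr (Or.inr (Or.inr (Or.inr (Or.inr (Or.inr (Or.inl ⟨rfl, q, rfl⟩))))))))) | exact Or.inr (Or.inr (Or.inr (Or.inr (Or.inr (Or.inr (Or.inr (Or.inr (Or.inr (Or.inr (Or.inl ⟨rfl, q, rfl⟩)))))))))) | exact Or.inr (Or.inr (Or.inr (Or.inr (Or.inr (Or.inr (Or.inr (Or.inr (Or.inr (Or.inr (Or.inr (⟨rfl, q, rfl⟩)))))))))))
    case g2 q =>
      have hx' : x ∈ [2, 6] := hx
      have hy' : y ∈ [2, 6] := hy
      have hxd' : 8 * 6 ∣ 12 * x := hxd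
      have hyd' : 12 * 6 ∣ 12 * y := hyd
      have h4 : 2 * 6 ≤ 6 * 6 := h2'
      simp only [List.mem_cons, List.not_mem_nil, or_false] at hx' hy'
      clear hx hy hxd hyd h2' hch hY
      first | (exfalso; clear * - hxd' hx'; omega) | exact Or.inl ⟨rfl, q, rfl⟩ | exact Or.inr (Or.inl ⟨rfl, q, rfl⟩) | exact Or.inr (Or.inr (Or.inl ⟨rfl, q, rfl⟩)) | exact Or.inr (Or.inr (Or.inr (Or.inl ⟨rfl, q, rfl⟩))) | exact Or.inr (Or.inr (Or.inr (Or.inr (Or.inl ⟨rfl, q, rfl⟩)))) | exact Or.inr (Or.inr (Or.inr (Or.inr (Or.inr (Or.inl ⟨rfl, q, rfl⟩))))) | exact Or.inr (Or.inr (Or.inr (Or.inr (Or.inr (Or.inr (Or.inl ⟨rfl, q, rfl⟩)))))) | exact Or.inr (Or.inr (Or.inr (Or.inr (Or.inr (Or.inr (Or.inr (Or.inl ⟨rfl, q, rfl⟩))))))) | exact Or.inr (Or.inr (Or.inr (Or.inr (Or.inr (Or.inr (Or.inr (Or.inr (Or.inl ⟨rfl, q, rfl⟩)))))))) | exact Or.inr (Or.inr (Or.inr (Or.inr (Or.inr (Or.inr (Or.inr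 (Or.inr (Or.inr (Or.inl ⟨rfl, q, rfl⟩))))))))) | exact Or.inr (Or.inr (Or.inr (Or.inr (Or.inr (Or.inr (Or.inr (Or.inr (Or.inr (Or.inr (Or.inl ⟨rfl, q, rfl⟩)))))))))) | exact Or.inr (Or.inr (Or.inr (Or.inr (Or.inr (Or.inr (Or.inr (Or.inr (Or.inr (Or.inr (Or.inr (⟨rfl, q, rfl⟩)))))))))))
    case f4 q =>
      have hx' : x ∈ [2, 6, 8, 12] := hx
      have hy' : y ∈ [2, 6, 8, 12] := hy
      have hxd' : 8 * 12 ∣ 12 * x := hxd
      have hyd' : 12 * 12 ∣ 12 * y := hyd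
      have h4 : 2 * 24 ≤ 6 * 12 := h2'
      simp only [List.mem_cons, List.not_mem_nil, or_false] at hx' hy'
      clear hx hy hxd hyd h2' hch hY
      first | fail | exact Or.inl ⟨rfl, q, rfl⟩ | exact Or.inr (Or.inl ⟨rfl, q, rfl⟩) | exact Or.inr (Or.inr (Or.inl ⟨rfl, q, rfl⟩)) | exact Or.inr (Or.inr (Or.inr (Or.inl ⟨rfl, q, rfl⟩))) | exact Or.inr (Or.inr (Or.inr (Or.inr (Or.inl ⟨rfl, q, rfl⟩)))) | exact Or.inr (Or.inr (Or.inr (Or.inr (Or.inr (Or.inl ⟨rfl, q, rfl⟩))))) | exact Or.inr (Or.inr (Or.inr (Or.inr (Or.inr (Or.inr (Or.inl ⟨rfl, q, rfl⟩)))))) | exact Or.inr (Or.inr (Or.inr (Or.inr (Or.inr (Or.inr (Or.inr (Or.inl ⟨rfl, q, rfl⟩))))))) | exact Or.inr (Or.inr (Or.inr (Or.inr (Or.inr (Or.inr (Or.inr (Or.inr (Or.inl ⟨rfl, q, rfl⟩)))))))) | exact Or.inr (Or.inr (Or.inr (Or.inr (Or.inr (Or.inr (Or.inr (Or.inr (Or.inr (Or.inl ⟨rfl, q, rfl⟩))))))))) | exact Or.inr (Or.inr (Or.inr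 (Or.inr (Or.inr (Or.inr (Or.inr (Or.inr (Or.inr (Or.inr (Or.inl ⟨rfl, q, rfl⟩)))))))))) | exact Or.inr (Or.inr (Or.inr (Or.inr (Or.inr (Or.inr (Or.inr (Or.inr (Or.inr (Or.inr (Or.inr (⟨rfl, q, rfl⟩)))))))))))
    case e6 q =>
      have hx' : x ∈ [2, 5, 6, 8, 9, 12] := hx
      have hy' : y ∈ [2, 5, 6, 8, 9, 12] := hy
      have hxd' : 8 * 12 ∣ 12 * x := hxd
      have hyd' : 12 * 12 ∣ 12 * y := hyd
      have h4 : 2 * 36 ≤ 6 * 12 := h2'
      simp only [List.mem_cons, List.not_mem_nil, or_false] at hx' hy'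
      clear hx hy hxd hyd h2' hch hY
      first | (exfalso; omega) | exact Or.inl ⟨rfl, q, rfl⟩ | exact Or.inr (Or.inl ⟨rfl, q, rfl⟩) | exact Or.inr (Or.inr (Or.inl ⟨rfl, q, rfl⟩)) | exact Or.inr (Or.inr (Or.inr (Or.inl ⟨rfl, q, rfl⟩))) | exact Or.inr (Or.inr (Or.inr (Or.inr (Or.inl ⟨rfl, q, rfl⟩)))) | exact Or.inr (Or.inr (Or.inr (Or.inr (Or.inr (Or.inl ⟨rfl, q, rfl⟩))))) | exact Or.inr (Or.inr (Or.inr (Or.inr (Or.inr (Or.inr (Or.inl ⟨rfl, q, rfl⟩)))))) | exact Or.inr (Or.inr (Or.inr (Or.inr (Or.inr (Or.inr (Or.inr (Or.inl ⟨rfl, q, rfl⟩))))))) | exact Or.inr (Or.inr (Or.inr (Or.inr (Or.inr (Or.inr (Or.inr (Or.inr (Or.inl ⟨rfl, q, rfl⟩)))))))) | exact Or.inr (Or.inr (Or.inr (Or.inr (Or.inr (Or.inr (Or.inr (Or.inr (Or.inr (Or.inl ⟨rfl, q, rfl⟩))))))))) | exact Or.inr (Or.inr (Or.inr (Or.inr (Or.inr (Or.inr (Or.inr (Or.inr (Or.inr (Or.inr (Or.inl ⟨rfl, q, rfl⟩)))))))))) | exact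 Or.inr (Or.inr (Or.inr (Or.inr (Or.inr (Or.inr (Or.inr (Or.inr (Or.inr (Or.inr (Or.inr (⟨rfl, q, rfl⟩)))))))))))
    case e7 q =>
      have hx' : x ∈ [2, 6, 8, 10, 12, 14, 18] := hx
      have hy' : y ∈ [2, 6, 8, 10, 12, 14, 18] := hy
      have hxd' : 8 * 18 ∣ 12 * x := hxd
      have hyd' : 12 * 18 ∣ 12 * y := hyd
      have h4 : 2 * 63 ≤ 6 * 18 := h2'
      simp only [List.mem_cons, List.not_mem_nil, or_false] at hx' hy'
      clear hx hy hxd hyd h2' hch hY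
      first | (exfalso; omega) | exact Or.inl ⟨rfl, q, rfl⟩ | exact Or.inr (Or.inl ⟨rfl, q, rfl⟩) | exact Or.inr (Or.inr (Or.inl ⟨rfl, q, rfl⟩)) | exact Or.inr (Or.inr (Or.inr (Or.inl ⟨rfl, q, rfl⟩))) | exact Or.inr (Or.inr (Or.inr (Or.inr (Or.inl ⟨rfl, q, rfl⟩)))) | exact Or.inr (Or.inr (Or.inr (Or.inr (Or.inr (Or.inl ⟨rfl, q, rfl⟩))))) | exact Or.inr (Or.inr (Or.inr (Or.inr (Or.inr (Or.inr (Or.inl ⟨rfl, q, rfl⟩)))))) | exact Or.inr (Or.inr (Or.inr (Or.inr (Or.inr (Or.inr (Or.inr (Or.inl ⟨rfl, q, rfl⟩))))))) | exact Or.inr (Or.inr (Or.inr (Or.inr (Or.inr (Or.inr (Or.inr (Or.inr (Or.inl ⟨rfl, q, rfl⟩)))))))) | exact Or.inr (Or.inr (Or.inr (Or.inr (Or.inr (Or.inr (Or.inr (Or.inr (Or.inr (Or.inl ⟨rfl, q, rfl⟩))))))))) | exact Or.inr (Or.inr (Or.inr (Or.inr (Or.inr (Or.inr (Or.inr (Or.inr (Or.inr (Or.inr (Or.inl ⟨rfl, q, rfl⟩)))))))))) | exact Or.inr (Or.inr (Or.inr (Or.inr (Or.inr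 (Or.inr (Or.inr (Or.inr (Or.inr (Or.inr (Or.inr (⟨rfl, q, rfl⟩)))))))))))
    case e8 q =>
      have hx' : x ∈ [2, 8, 12, 14, 18, 20, 24, 30] := hx
      have hy' : y ∈ [2, 8, 12, 14, 18, 20, 24, 30] := hy
      have hxd' : 8 * 30 ∣ 12 * x := hxd
      have hyd' : 12 * 30 ∣ 12 * y := hyd
      have h4 : 2 * 120 ≤ 6 * 30 := h2'
      simp only [List.mem_cons, List.not_mem_nil, or_false] at hx' hy'
      clear hx hy hxd hyd h2' hch hY
      first | (exfalso; omega) | exact Or.inl ⟨rfl, q, rfl⟩ | exact Or.inr (Or.inl ⟨rfl, q, rfl⟩) | exact Or.inr (Or.inr (Or.inl ⟨rfl, q, rfl⟩)) | exact Or.inr (Or.inr (Or.inr (Or.inl ⟨rfl, q, rfl⟩))) | exact Or.inr (Or.inr (Or.inr (Or.inr (Or.inl ⟨rfl, q, rfl⟩)))) | exact Or.inr (Or.inr (Or.inr (Or.inr (Or.inr (Or.inl ⟨rfl, q, rfl⟩))))) | exact Or.inr (Or.inr (Or.inr (Or.inr (Or.inr (Or.inr (Or.inl ⟨rfl, q, rfl⟩)))))) | exact Or.inr (Or.inr (Or.inr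 (Or.inr (Or.inr (Or.inr (Or.inr (Or.inl ⟨rfl, q, rfl⟩))))))) | exact Or.inr (Or.inr (Or.inr (Or.inr (Or.inr (Or.inr (Or.inr (Or.inr (Or.inl ⟨rfl, q, rfl⟩)))))))) | exact Or.inr (Or.inr (Or.inr (Or.inr (Or.inr (Or.inr (Or.inr (Or.inr (Or.inr (Or.inl ⟨rfl, q, rfl⟩))))))))) | exact Or.inr (Or.inr (Or.inr (Or.inr (Or.inr (Or.inr (Or.inr (Or.inr (Or.inr (Or.inr (Or.inl ⟨rfl, q, rfl⟩)))))))))) | exact Or.inr (Or.inr (Or.inr (Or.inr (Or.inr (Or.inr (Or.inr (Or.inr (Or.inr (Or.inr (Or.inr (⟨rfl, q, rfl⟩)))))))))))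
    case te6 q =>
      have hx' : x ∈ [2, 10, 6, 8, 18, 12] := hx
      have hy' : y ∈ [2, 10, 6, 8, 18, 12] := hy
      have hxd' : 8 * 18 ∣ 12 * x := hxd
      have hyd' : 12 * 18 ∣ 12 * y := hyd
      have h4 : 2 * 36 ≤ 6 * 18 := h2'
      obtain ⟨j, hj, hjd⟩ := hY 8 (by norm_num) (show 8 ∈ [2, 3, 4, 6, 8, 10, 12, 18] by decide)
      have hjd' : 12 * 8 ∣ 18 * j := hjd
      simp only [List.mem_cons, List.not_mem_nil, or_false] at hj
      simp only [List.mem_cons, List.not_mem_nil, or_false] at hx' hy'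
      clear hx hy hxd hyd h2' hch hY
      first | (exfalso; clear * - hxd' hyd' hjd' hj; omega) | exact Or.inl ⟨rfl, q, rfl⟩ | exact Or.inr (Or.inl ⟨rfl, q, rfl⟩) | exact Or.inr (Or.inr (Or.inl ⟨rfl, q, rfl⟩)) | exact Or.inr (Or.inr (Or.inr (Or.inl ⟨rfl, q, rfl⟩))) | exact Or.inr (Or.inr (Or.inr (Or.inr (Or.inl ⟨rfl, q, rfl⟩)))) | exact Or.inr (Or.inr (Or.inr (Or.inr (Or.inr (Or.inl ⟨rfl, q, rfl⟩))))) | exact Or.inr (Or.inr (Or.inr (Or.inr (Or.inr (Or.inr (Or.inl ⟨rfl, q, rfl⟩)))))) | exact Or.inr (Or.inr (Or.inr (Or.inr (Or.inr (Or.inr (Or.inr (Or.inl ⟨rfl, q, rfl⟩))))))) | exact Or.inr (Or.inr (Or.inr (Or.inr (Or.inr (Or.inr (Or.inr (Or.inr (Or.inl ⟨rfl, q, rfl⟩)))))))) | exact Or.inr (Or.inr (Or.inr (Or.inr (Or.inr (Or.inr (Or.inr (Or.inr (Or.inr (Or.inl ⟨rfl, q, rfl⟩))))))))) | exact Or.inr (Or.inr (Or.inr (Or.inr (Or.inr (Or.inr (Or.inr (Or.inr (Or.inr (Or.inr (Or.inl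 ⟨rfl, q, rfl⟩)))))))))) | exact Or.inr (Or.inr (Or.inr (Or.inr (Or.inr (Or.inr (Or.inr (Or.inr (Or.inr (Or.inr (Or.inr (⟨rfl, q, rfl⟩)))))))))))
    case td4 q =>
      have hx' : x ∈ [2, 6, 12] := hx
      have hy' : y ∈ [2, 6, 12] := hy
      have hxd' : 8 * 12 ∣ 12 * x := hxd
      have hyd' : 12 * 12 ∣ 12 * y := hyd
      have h4 : 2 * 12 ≤ 6 * 12 := h2'
      simp only [List.mem_cons, List.not_mem_nil, or_false] at hx' hy'
      clear hx hy hxd hyd h2' hch hY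
      first | (exfalso; clear * - hxd' hx'; omega) | exact Or.inl ⟨rfl, q, rfl⟩ | exact Or.inr (Or.inl ⟨rfl, q, rfl⟩) | exact Or.inr (Or.inr (Or.inl ⟨rfl, q, rfl⟩)) | exact Or.inr (Or.inr (Or.inr (Or.inl ⟨rfl, q, rfl⟩))) | exact Or.inr (Or.inr (Or.inr (Or.inr (Or.inl ⟨rfl, q, rfl⟩)))) | exact Or.inr (Or.inr (Or.inr (Or.inr (Or.inr (Or.inl ⟨rfl, q, rfl⟩))))) | exact Or.inr (Or.inr (Or.inr (Or.inr (Or.inr (Or.inr (Or.inl ⟨rfl, q, rfl⟩)))))) | exact Or.inr (Or.inr (Or.inr (Or.inr (Or.inr (Or.inr (Or.inr (Or.inl ⟨rfl, q, rfl⟩))))))) | exact Or.inr (Or.inr (Or.inr (Or.inr (Or.inr (Or.inr (Or.inr (Or.inr (Or.inl ⟨rfl, q, rfl⟩)))))))) | exact Or.inr (Or.inr (Or.inr (Or.inr (Or.inr (Or.inr (Or.inr (Or.inr (Or.inr (Or.inl ⟨rfl, q, rfl⟩))))))))) | exact Or.inr (Or.inr (Or.inr (Or.inr (Or.inr (Or.inr (Or.inr (Or.inr (Or.inr (Or.inr (Or.inl ⟨rfl, q, rfl⟩)))))))))) | exact Or.inr (Or.inr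 (Or.inr (Or.inr (Or.inr (Or.inr (Or.inr (Or.inr (Or.inr (Or.inr (Or.inr (⟨rfl, q, rfl⟩)))))))))))
    case sz q =>
      have hx' : x ∈ [1, 4] := hx
      have hy' : y ∈ [1, 4] := hy
      have hxd' : 8 * 4 ∣ 12 * x := hxd
      have hyd' : 12 * 4 ∣ 12 * y := hyd
      have h4 : 2 * 2 ≤ 6 * 4 := h2'
      simp only [List.mem_cons, List.not_mem_nil, or_false] at hx' hy'
      clear hx hy hxd hyd h2' hch hY
      first | (exfalso; clear * - hxd' hx'; omega) | exact Or.inl ⟨rfl, q, rfl⟩ | exact Or.inr (Or.inl ⟨rfl, q, rfl⟩) | exact Or.inr (Or.inr (Or.inl ⟨rfl, q, rfl⟩)) | exact Or.inr (Or.inr (Or.inr (Or.inl ⟨rfl, q, rfl⟩))) | exact Or.inr (Or.inr (Or.inr (Or.inr (Or.inl ⟨rfl, q, rfl⟩)))) | exact Or.inr (Or.inr (Or.inr (Or.inr (Or.inr (Or.inl ⟨rfl, q, rfl⟩))))) | exact Or.inr (Or.inr (Or.inr (Or.inr (Or.inr (Or.inr (Or.inl ⟨rfl, q, rfl⟩)))))) | exact Or.inr (Or.inr (Or.inr (Or.inr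 (Or.inr (Or.inr (Or.inr (Or.inl ⟨rfl, q, rfl⟩))))))) | exact Or.inr (Or.inr (Or.inr (Or.inr (Or.inr (Or.inr (Or.inr (Or.inr (Or.inl ⟨rfl, q, rfl⟩)))))))) | exact Or.inr (Or.inr (Or.inr (Or.inr (Or.inr (Or.inr (Or.inr (Or.inr (Or.inr (Or.inl ⟨rfl, q, rfl⟩))))))))) | exact Or.inr (Or.inr (Or.inr (Or.inr (Or.inr (Or.inr (Or.inr (Or.inr (Or.inr (Or.inr (Or.inl ⟨rfl, q, rfl⟩)))))))))) | exact Or.inr (Or.inr (Or.inr (Or.inr (Or.inr (Or.inr (Or.inr (Or.inr (Or.inr (Or.inr (Or.inr (⟨rfl, q, rfl⟩)))))))))))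
    case ree q =>
      have hx' : x ∈ [1, 6] := hx
      have hy' : y ∈ [1, 6] := hy
      have hxd' : 8 * 6 ∣ 12 * x := hxd
      have hyd' : 12 * 6 ∣ 12 * y := hyd
      have h4 : 2 * 3 ≤ 6 * 6 := h2'
      simp only [List.mem_cons, List.not_mem_nil, or_false] at hx' hy'
      clear hx hy hxd hyd h2' hch hY
      first | (exfalso; clear * - hxd' hx'; omega) | exact Or.inl ⟨rfl, q, rfl⟩ | exact Or.inr (Or.inl ⟨rfl, q, rfl⟩) | exact Or.inr (Or.inr (Or.inl ⟨rfl, q, rfl⟩)) | exact Or.inr (Or.inr (Or.inr (Or.inl ⟨rfl, q, rfl⟩))) | exact Or.inr (Or.inr (Or.inr (Or.inr (Or.inl ⟨rfl, q, rfl⟩)))) | exact Or.inr (Or.inr (Or.inr (Or.inr (Or.inr (Or.inl ⟨rfl, q, rfl⟩))))) | exact Or.inr (Or.inr (Or.inr (Or.inr (Or.inr (Or.inr (Or.inl ⟨rfl, q, rfl⟩)))))) | exact Or.inr (Or.inr (Or.inr (Or.inr (Or.inr (Or.inr (Or.inr (Or.inl ⟨rfl, q, rfl⟩))))))) | exact Or.inr (Or.inr (Or.inr (Or.inr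 (Or.inr (Or.inr (Or.inr (Or.inr (Or.inl ⟨rfl, q, rfl⟩)))))))) | exact Or.inr (Or.inr (Or.inr (Or.inr (Or.inr (Or.inr (Or.inr (Or.inr (Or.inr (Or.inl ⟨rfl, q, rfl⟩))))))))) | exact Or.inr (Or.inr (Or.inr (Or.inr (Or.inr (Or.inr (Or.inr (Or.inr (Or.inr (Or.inr (Or.inl ⟨rfl, q, rfl⟩)))))))))) | exact Or.inr (Or.inr (Or.inr (Or.inr (Or.inr (Or.inr (Or.inr (Or.inr (Or.inr (Or.inr (Or.inr (⟨rfl, q, rfl⟩)))))))))))
    case tf4 q =>
      have hx' : x ∈ [1, 6, 4, 12] := hx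
      have hy' : y ∈ [1, 6, 4, 12] := hy
      have hxd' : 8 * 12 ∣ 12 * x := hxd
      have hyd' : 12 * 12 ∣ 12 * y := hyd
      have h4 : 2 * 12 ≤ 6 * 12 := h2'
      simp only [List.mem_cons, List.not_mem_nil, or_false] at hx' hy'
      clear hx hy hxd hyd h2' hch hY
      first | (exfalso; clear * - hxd' hx'; omega) | exact Or.inl ⟨rfl, q, rfl⟩ | exact Or.inr (Or.inl ⟨rfl, q, rfl⟩) | exact Or.inr (Or.inr (Or.inl ⟨rfl, q, rfl⟩)) | exact Or.inr (Or.inr (Or.inr (Or.inl ⟨rfl, q, rfl⟩))) | exact Or.inr (Or.inr (Or.inr (Or.inr (Or.inl ⟨rfl, q, rfl⟩)))) | exact Or.inr (Or.inr (Or.inr (Or.inr (Or.inr (Or.inl ⟨rfl, q, rfl⟩))))) | exact Or.inr (Or.inr (Or.inr (Or.inr (Or.inr (Or.inr (Or.inl ⟨rfl, q, rfl⟩)))))) | exact Or.inr (Or.inr (Or.inr (Or.inr (Or.inr (Or.inr (Or.inr (Or.inl ⟨rfl, q, rfl⟩))))))) | exact Or.inr (Or.inr (Or.inr (Or.inr (Or.inr (Or.inr (Or.inr (Or.inr (Or.inl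 ⟨rfl, q, rfl⟩)))))))) | exact Or.inr (Or.inr (Or.inr (Or.inr (Or.inr (Or.inr (Or.inr (Or.inr (Or.inr (Or.inl ⟨rfl, q, rfl⟩))))))))) | exact Or.inr (Or.inr (Or.inr (Or.inr (Or.inr (Or.inr (Or.inr (Or.inr (Or.inr (Or.inr (Or.inl ⟨rfl, q, rfl⟩)))))))))) | exact Or.inr (Or.inr (Or.inr (Or.inr (Or.inr (Or.inr (Or.inr (Or.inr (Or.inr (Or.inr (Or.inr (⟨rfl, q, rfl⟩)))))))))))
    all_goals exact absurd hch not_false


/-! ### too many factors divisible by the primes of order `4` -/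

section Kill

variable {s y N : ℕ} (hp : p.Prime) (hf : 1 ≤ f) (hs4 : Prim (p ^ f) 4 s) (hy : ¬ s ∣ y) (hy0 : 0 < y)
  (hd : c ∣ (p ^ f) ^ N * (y * (((p ^ f) ^ 8 - 1) * ((p ^ f) ^ 12 - 1))))

include hp hf hs4 hy hy0 hd

theorem kill4_psp (hc : den (.psp 3 (p ^ (f * 2))) * c = num (.psp 3 (p ^ (f * 2)))) : False := by
  have hq : 2 ≤ p ^ f := hp.two_le.trans (Nat.le_self_pow (by omega) _)
  have b8 := sub_pos' (d := 8) hq (by norm_num)
  have b12 := sub_pos' (d := 12) hq (by norm_num)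
  have hc0 : 0 < c := pos_of_dvd (by (clear * - hy0 hq b8 b12; positivity)) hd
  have hs5 : 5 ≤ s := by
    have := lt_of_prim hs4
    omega
  have hx : s ∣ (p ^ f) ^ 4 - 1 := hs4.dvd dvd_rfl
  have h6 : Nat.gcd 2 (p ^ (f * 2) - 1) * c = (p ^ (f * 2)) ^ (3 ^ 2) * prB (p ^ (f * 2)) 3 := hc
  refine cancel_prime hs4.prime (Z := ((p ^ f) ^ 8 - 1) * ((p ^ f) ^ 12 - 1)) (by (clear * - b8 b12; positivity)) hc0
    (A := (p ^ (f * 2)) ^ (3 ^ 2)) (x := (p ^ f) ^ 4 - 1) (D := Nat.gcd 2 (p ^ (f * 2) - 1)) (B := (p ^ f) ^ N) ?_ hd hx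
    (fun h => ?_) (hs4.not_dvd_pow _) hy
  · rw [h6, prB_three']
  · have := Nat.le_of_dvd (by norm_num) (h.trans (Nat.gcd_dvd_left _ _))
    omega

theorem kill4_oodd (hc : den (.oodd 3 (p ^ (f * 2))) * c = num (.oodd 3 (p ^ (f * 2)))) : False := by
  have hq : 2 ≤ p ^ f := hp.two_le.trans (Nat.le_self_pow (by omega) _)
  have b8 := sub_pos' (d := 8) hq (by norm_num)
  have b12 := sub_pos' (d := 12) hq (by norm_num)
  have hc0 : 0 < c := pos_of_dvd (by (clear * - hy0 hq b8 b12; positivity)) hd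
  have hs5 : 5 ≤ s := by
    have := lt_of_prim hs4
    omega
  have hx : s ∣ (p ^ f) ^ 4 - 1 := hs4.dvd dvd_rfl
  have h6 : 2 * c = (p ^ (f * 2)) ^ (3 ^ 2) * prB (p ^ (f * 2)) 3 := hc
  refine cancel_prime hs4.prime (Z := ((p ^ f) ^ 8 - 1) * ((p ^ f) ^ 12 - 1)) (by (clear * - b8 b12; positivity)) hc0
    (A := (p ^ (f * 2)) ^ (3 ^ 2)) (x := (p ^ f) ^ 4 - 1) (D := 2) (B := (p ^ f) ^ N) ?_ hd hx
    (fun h => ?_) (hs4.not_dvd_pow _) hy
  · rw [h6, prB_three']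
  · have := Nat.le_of_dvd (by norm_num) h
    omega

theorem kill4_oplus (hc : den (.oplus 4 (p ^ (f * 2))) * c = num (.oplus 4 (p ^ (f * 2)))) : False := by
  have hq : 2 ≤ p ^ f := hp.two_le.trans (Nat.le_self_pow (by omega) _)
  have b8 := sub_pos' (d := 8) hq (by norm_num)
  have b12 := sub_pos' (d := 12) hq (by norm_num)
  have hc0 : 0 < c := pos_of_dvd (by (clear * - hy0 hq b8 b12; positivity)) hd
  have hs5 : 5 ≤ s := by
    have := lt_of_prim hs4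
    omega
  have hx : s ∣ (p ^ f) ^ 4 - 1 := hs4.dvd dvd_rfl
  have h6 : Nat.gcd 4 ((p ^ (f * 2)) ^ 4 - 1) * c =
      (p ^ (f * 2)) ^ (4 * (4 - 1)) * (((p ^ (f * 2)) ^ 4 - 1) * prB (p ^ (f * 2)) (4 - 1)) := hc
  refine cancel_prime hs4.prime (Z := ((p ^ f) ^ 8 - 1) * ((p ^ f) ^ 12 - 1)) (by (clear * - b8 b12; positivity)) hc0
    (A := (p ^ (f * 2)) ^ (4 * (4 - 1)) * ((p ^ (f * 2)) ^ 4 - 1)) (x := (p ^ f) ^ 4 - 1)
    (D := Nat.gcd 4 ((p ^ (f * 2)) ^ 4 - 1)) (B := (p ^ f) ^ N) ?_ hd hx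
    (fun h => ?_) (hs4.not_dvd_pow _) hy
  · rw [h6, mul_assoc]
    congr 2
    show prB (p ^ (f * 2)) 3 = _
    rw [prB_three']
  · have := Nat.le_of_dvd (by norm_num) (h.trans (Nat.gcd_dvd_left _ _))
    omega

theorem kill4_psu (hc : den (.psu 4 (p ^ (f * 2))) * c = num (.psu 4 (p ^ (f * 2)))) : False := by
  have hq : 2 ≤ p ^ f := hp.two_le.trans (Nat.le_self_pow (by omega) _)
  have b6 := sub_pos' (d := 6) hq (by norm_num)
  have b8 := sub_pos' (d := 8) hq (by norm_num)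
  have b12 := sub_pos' (d := 12) hq (by norm_num)
  have hc0 : 0 < c := pos_of_dvd (by (clear * - hy0 hq b8 b12; positivity)) hd
  have hs5 : 5 ≤ s := by
    have := lt_of_prim hs4
    omega
  have hx : s ∣ (p ^ f) ^ 4 - 1 := hs4.dvd dvd_rfl
  have h6 : Nat.gcd 4 (p ^ (f * 2) + 1) * (p ^ (f * 2) + 1) * c =
      (p ^ (f * 2)) ^ (4 * (4 - 1) / 2) * prU (p ^ (f * 2)) 4 := hc
  have hU : prU (p ^ (f * 2)) 4 = ((p ^ (f * 2)) ^ 1 + 1) * (((p ^ (f * 2)) ^ 2 - 1) * (((p ^ (f * 2)) ^ 3 + 1) *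
    (((p ^ (f * 2)) ^ 4 - 1) * 1))) := rfl
  have e1 : (p ^ (f * 2)) ^ 2 = (p ^ f) ^ 4 := by rw [pow_mul, ← pow_mul]
  have e2 : (p ^ (f * 2)) ^ 4 = (p ^ f) ^ 8 := by rw [pow_mul, ← pow_mul]
  have e3 : (p ^ (f * 2)) ^ 3 = (p ^ f) ^ 6 := by rw [pow_mul, ← pow_mul]
  rw [hU, e1, e2, e3, pow_one, mul_one] at h6
  refine cancel_prime hs4.prime (Z := ((p ^ f) ^ 8 - 1) * ((p ^ f) ^ 6 + 1)) (by (clear * - hq b8; positivity)) hc0
    (A := (p ^ (f * 2)) ^ (4 * (4 - 1) / 2)) (x := (p ^ f) ^ 4 - 1) (D := Nat.gcd 4 (p ^ (f * 2) + 1))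
    (B := (p ^ f) ^ N) (y := y * ((p ^ f) ^ 6 - 1)) ?_ ?_ hx
    (fun h => ?_) (hs4.not_dvd_pow _) (fun h => ?_)
  · apply Nat.eq_of_mul_eq_mul_left (show 0 < p ^ (f * 2) + 1 by omega)
    calc (p ^ (f * 2) + 1) * (Nat.gcd 4 (p ^ (f * 2) + 1) * c)
        = Nat.gcd 4 (p ^ (f * 2) + 1) * (p ^ (f * 2) + 1) * c := by ring
      _ = _ := h6
      _ = _ := by ring
  · have h7 : (p ^ f) ^ 12 - 1 = ((p ^ f) ^ 6 - 1) * ((p ^ f) ^ 6 + 1) := by
      have := Nat.sq_sub_sq ((p ^ f) ^ 6) 1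
      rw [one_pow, ← pow_mul] at this
      rw [mul_comm]
      exact this
    rw [h7] at hd
    refine hd.trans (dvd_of_eq ?_)
    ring
  · have := Nat.le_of_dvd (by norm_num) (h.trans (Nat.gcd_dvd_left _ _))
    omega
  · rcases hs4.prime.dvd_mul.1 h with h | h
    · exact hy h
    · exact hs4.not_dvd_sub (by norm_num) h

end Kill

/-- **`E_6(q)`, classes 8 and 12.** -/
theorem charp_e6_812 (hp : p.Prime) (hf : 1 ≤ f) (hg : Cond g) (hch : HasChar p g)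
    (hc : den g * c = num g) (hdvd : c ∣ num (.e6 (p ^ f))) (hs1 : HT p f 8 g c) (hs2 : HT p f 12 g c) :
    g = .e6 (p ^ f) ∨ g = .f4 (p ^ f) ∨ g = .psl 3 (p ^ (4 * f)) := by
  obtain ⟨f₁, hf₁, hfl, hK, hY⟩ := kd_all hp hg hch hc
  obtain ⟨i, hi, hei, hfM, h2, h1, h3, hYc⟩ := compP hp hf hg hch hf₁ hfl hK hY (td_e6 hp hf hdvd)
    (by norm_num) (by norm_num) (by norm_num) (fun i hi hei s hs h5 => by
      have hi' : i ∈ [2, 5, 6, 8, 9, 12] := hi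
      refine hpr_aux ?_ hs (by omega)
      simp only [List.mem_cons, List.not_mem_nil, or_false] at hi' ⊢
      (clear * - hei hi'; (solve | lia | omega))) hs1 hs2
  have hq : 2 ≤ p ^ f := hp.two_le.trans (Nat.le_self_pow (by omega) _)
  obtain ⟨s, hs4⟩ := exists_prim (q := p ^ f) (e := 4) hq (by norm_num) (by omega)
  have hd0 : c ∣ (p ^ f) ^ 36 * (((p ^ f) ^ 2 - 1) * ((p ^ f) ^ 5 - 1) * ((p ^ f) ^ 6 - 1) *
      ((p ^ f) ^ 8 - 1) * ((p ^ f) ^ 9 - 1) * ((p ^ f) ^ 12 - 1)) := hdvd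
  have hd : c ∣ (p ^ f) ^ 36 * ((((p ^ f) ^ 2 - 1) * ((p ^ f) ^ 5 - 1) * ((p ^ f) ^ 6 - 1) * ((p ^ f) ^ 9 - 1)) *
      (((p ^ f) ^ 8 - 1) * ((p ^ f) ^ 12 - 1))) := hd0.trans (dvd_of_eq (by ring))
  have b2 := sub_pos' (d := 2) hq (by norm_num)
  have b5 := sub_pos' (d := 5) hq (by norm_num)
  have b6 := sub_pos' (d := 6) hq (by norm_num)
  have b9 := sub_pos' (d := 9) hq (by norm_num)
  have hy0 : 0 < ((p ^ f) ^ 2 - 1) * ((p ^ f) ^ 5 - 1) * ((p ^ f) ^ 6 - 1) * ((p ^ f) ^ 9 - 1) := by (clear * - b2 b5 b6 b9; positivity)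
  have hy : ¬ s ∣ ((p ^ f) ^ 2 - 1) * ((p ^ f) ^ 5 - 1) * ((p ^ f) ^ 6 - 1) * ((p ^ f) ^ 9 - 1) := fun h => by
    rcases hs4.prime.dvd_mul.1 h with h | h
    · rcases hs4.prime.dvd_mul.1 h with h | h
      · rcases hs4.prime.dvd_mul.1 h with h | h
        · exact hs4.not_dvd_sub (by norm_num) h
        · exact hs4.not_dvd_sub (by norm_num) h
      · exact hs4.not_dvd_sub (by norm_num) h
    · exact hs4.not_dvd_sub (by norm_num) h
  rcases elimP_e6_8_12 hg hch hi hei h2 h1 h3 hYc with ⟨rfl, q, rfl⟩ | ⟨rfl, q, rfl⟩ | ⟨rfl, q, rfl⟩ |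
    ⟨rfl, q, rfl⟩ | ⟨rfl, q, rfl⟩ | ⟨rfl, q, rfl⟩ | ⟨rfl, q, rfl⟩
  · left
    obtain rfl : q = p ^ f₁ := hfl
    rw [same_fld (M := 12) (by norm_num) hfM]
  · right; left
    obtain rfl : q = p ^ f₁ := hfl
    rw [same_fld (M := 12) (by norm_num) hfM]
  · right; right
    obtain rfl : q = p ^ f₁ := hfl
    have h5 : f₁ * 3 = f * 12 := hfM
    obtain rfl : f₁ = 4 * f := by omega
    rfl
  · exfalso
    obtain rfl : q = p ^ f₁ := hfl
    have h5 : f₁ * (2 * 3) = f * 12 := hfM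
    obtain rfl : f₁ = f * 2 := by omega
    exact kill4_psp hp hf hs4 hy hy0 hd hc
  · exfalso
    obtain rfl : q = p ^ f₁ := hfl
    have h5 : f₁ * (2 * 3) = f * 12 := hfM
    obtain rfl : f₁ = f * 2 := by omega
    exact kill4_oodd hp hf hs4 hy hy0 hd hc
  · exfalso
    obtain rfl : q = p ^ f₁ := hfl
    have h5 : f₁ * 6 = f * 12 := hfM
    obtain rfl : f₁ = f * 2 := by omega
    exact kill4_psu hp hf hs4 hy hy0 hd hc
  · exfalso
    obtain rfl : q = p ^ f₁ := hfl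
    have h5 : f₁ * (2 * (4 - 1)) = f * 12 := hfM
    obtain rfl : f₁ = f * 2 := by omega
    exact kill4_oplus hp hf hs4 hy hy0 hd hc

/-- **`²E_6(q)`, classes 8 and 12.** -/
theorem charp_te6_812 (hp : p.Prime) (hf : 1 ≤ f) (hg : Cond g) (hch : HasChar p g)
    (hc : den g * c = num g) (hdvd : c ∣ num (.te6 (p ^ f))) (hs1 : HT p f 8 g c) (hs2 : HT p f 12 g c) :
    g = .te6 (p ^ f) ∨ g = .f4 (p ^ f) ∨ g = .psl 3 (p ^ (4 * f)) := by
  obtain ⟨f₁, hf₁, hfl, hK, hY⟩ := kd_all hp hg hch hc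
  obtain ⟨i, hi, hei, hfM, h2, h1, h3, hYc⟩ := compP hp hf hg hch hf₁ hfl hK hY (td_te6 hp hf hdvd)
    (by norm_num) (by norm_num) (by norm_num) (fun i hi hei s hs h5 => by
      have hi' : i ∈ [2, 10, 6, 8, 18, 12] := hi
      refine hpr_aux ?_ hs (by omega)
      simp only [List.mem_cons, List.not_mem_nil, or_false] at hi' ⊢
      (clear * - hei hi'; omega)) hs1 hs2
  have hq : 2 ≤ p ^ f := hp.two_le.trans (Nat.le_self_pow (by omega) _)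
  obtain ⟨t, hs0⟩ := exists_prim (q := p ^ f) (e := 5) hq (by norm_num) (by omega)
  have hn : ¬ t ∣ c := fun h => not_dvd_te6_5 hs0 (h.trans hdvd)
  obtain ⟨s, hs4⟩ := exists_prim (q := p ^ f) (e := 4) hq (by norm_num) (by omega)
  have hd0 : c ∣ (p ^ f) ^ 36 * (((p ^ f) ^ 2 - 1) * ((p ^ f) ^ 5 + 1) * ((p ^ f) ^ 6 - 1) *
      ((p ^ f) ^ 8 - 1) * ((p ^ f) ^ 9 + 1) * ((p ^ f) ^ 12 - 1)) := hdvd
  have hd : c ∣ (p ^ f) ^ 36 * ((((p ^ f) ^ 2 - 1) * ((p ^ f) ^ 10 - 1) * ((p ^ f) ^ 6 - 1) * ((p ^ f) ^ 18 - 1)) *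
      (((p ^ f) ^ 8 - 1) * ((p ^ f) ^ 12 - 1))) := by
    refine hd0.trans (Nat.mul_dvd_mul_left _ ?_)
    have e : (((p ^ f) ^ 2 - 1) * ((p ^ f) ^ 5 + 1) * ((p ^ f) ^ 6 - 1) *
      ((p ^ f) ^ 8 - 1) * ((p ^ f) ^ 9 + 1) * ((p ^ f) ^ 12 - 1)) = (((p ^ f) ^ 2 - 1) * ((p ^ f) ^ 5 + 1) *
      ((p ^ f) ^ 6 - 1) * ((p ^ f) ^ 9 + 1)) * (((p ^ f) ^ 8 - 1) * ((p ^ f) ^ 12 - 1)) := by ring
    rw [e]
    refine Nat.mul_dvd_mul_right ?_ _
    exact Nat.mul_dvd_mul (Nat.mul_dvd_mul_right (Nat.mul_dvd_mul_left _ (add_dvd (p ^ f) 5)) _) (add_dvd (p ^ f) 9)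
  have b2 := sub_pos' (d := 2) hq (by norm_num)
  have b10 := sub_pos' (d := 10) hq (by norm_num)
  have b6 := sub_pos' (d := 6) hq (by norm_num)
  have b18 := sub_pos' (d := 18) hq (by norm_num)
  have hy0 : 0 < ((p ^ f) ^ 2 - 1) * ((p ^ f) ^ 10 - 1) * ((p ^ f) ^ 6 - 1) * ((p ^ f) ^ 18 - 1) := by (clear * - b2 b10 b6 b18; positivity)
  have hy : ¬ s ∣ ((p ^ f) ^ 2 - 1) * ((p ^ f) ^ 10 - 1) * ((p ^ f) ^ 6 - 1) * ((p ^ f) ^ 18 - 1) := fun h => by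
    rcases hs4.prime.dvd_mul.1 h with h | h
    · rcases hs4.prime.dvd_mul.1 h with h | h
      · rcases hs4.prime.dvd_mul.1 h with h | h
        · exact hs4.not_dvd_sub (by norm_num) h
        · exact hs4.not_dvd_sub (by norm_num) h
      · exact hs4.not_dvd_sub (by norm_num) h
    · exact hs4.not_dvd_sub (by norm_num) h
  rcases elimP_te6_8_12 hg hch hi hei h2 h1 h3 hYc with ⟨rfl, q, rfl⟩ | ⟨rfl, q, rfl⟩ | ⟨rfl, q, rfl⟩ |
    ⟨rfl, q, rfl⟩ | ⟨rfl, q, rfl⟩ | ⟨rfl, q, rfl⟩ | ⟨rfl, q, rfl⟩ | ⟨rfl, q, rfl⟩ | ⟨rfl, q, rfl⟩ | ⟨rfl, q, rfl⟩ |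
    ⟨rfl, q, rfl⟩ | ⟨rfl, q, rfl⟩
  · left
    obtain rfl : q = p ^ f₁ := hfl
    rw [same_fld (M := 18) (by norm_num) hfM]
  · right; left
    obtain rfl : q = p ^ f₁ := hfl
    rw [same_fld (M := 12) (by norm_num) hfM]
  · right; right
    obtain rfl : q = p ^ f₁ := hfl
    have h5 : f₁ * 3 = f * 12 := hfM
    obtain rfl : f₁ = 4 * f := by omega
    rfl
  · exfalso
    obtain rfl : q = p ^ f₁ := hfl
    have h5 : f₁ * (2 * 3) = f * 12 := hfM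
    obtain rfl : f₁ = f * 2 := by omega
    exact kill4_psp hp hf hs4 hy hy0 hd hc
  · exfalso
    obtain rfl : q = p ^ f₁ := hfl
    have h5 : f₁ * (2 * 3) = f * 12 := hfM
    obtain rfl : f₁ = f * 2 := by omega
    exact kill4_oodd hp hf hs4 hy hy0 hd hc
  · exfalso
    obtain rfl : q = p ^ f₁ := hfl
    have h5 : f₁ * 6 = f * 12 := hfM
    obtain rfl : f₁ = f * 2 := by omega
    exact kill4_psu hp hf hs4 hy hy0 hd hc
  · exfalso
    obtain rfl : q = p ^ f₁ := hfl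
    have h5 : f₁ * (2 * (4 - 1)) = f * 12 := hfM
    obtain rfl : f₁ = f * 2 := by omega
    exact kill4_oplus hp hf hs4 hy hy0 hd hc
  · exfalso
    obtain rfl : q = p ^ f₁ := hfl
    have h5 : f₁ * 6 = f * 12 := hfM
    have h6 := Cfsg.Agent.H425.Chr.prim_quot (f := 2) (by norm_num) hs0
    rw [← pow_mul, show f * 2 = f₁ by omega] at h6
    exact hn (psl_prim (e := 5) (by norm_num) (by norm_num) hc h6)
  · exfalso
    obtain rfl : q = p ^ f₁ := hfl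
    have h5 : f₁ * (2 * 6) = f * 12 := hfM
    obtain rfl : f₁ = f := by omega
    exact hn (psp_prim (e := 5) 5 (by norm_num) (by norm_num) (by norm_num) (by norm_num) hc hs0)
  · exfalso
    obtain rfl : q = p ^ f₁ := hfl
    have h5 : f₁ * (2 * 6) = f * 12 := hfM
    obtain rfl : f₁ = f := by omega
    exact hn (oodd_prim (e := 5) 5 (by norm_num) (by norm_num) (by norm_num) (by norm_num) hc hs0)
  · exfalso
    obtain rfl : q = p ^ f₁ := hfl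
    have h5 : f₁ * (2 * 6) = f * 12 := hfM
    obtain rfl : f₁ = f := by omega
    exact hn (ominus_prim 5 (by norm_num) (by norm_num) (by norm_num) (by norm_num) hc hs0)
  · exfalso
    obtain rfl : q = p ^ f₁ := hfl
    obtain rfl := same_fld (M := 12) (by norm_num) hfM
    have h6 : Nat.gcd 3 (p ^ f₁ - 1) * c = (p ^ f₁) ^ 36 * (((p ^ f₁) ^ 2 - 1) * ((p ^ f₁) ^ 5 - 1) * ((p ^ f₁) ^ 6 - 1) *
      ((p ^ f₁) ^ 8 - 1) * ((p ^ f₁) ^ 9 - 1) * ((p ^ f₁) ^ 12 - 1)) := hc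
    have h7 : t ∣ Nat.gcd 3 (p ^ f₁ - 1) * c := by
      rw [h6]
      exact ((((((hs0.dvd dvd_rfl).mul_left _).mul_right _).mul_right _).mul_right _).mul_right _).mul_left _
    rcases hs0.prime.dvd_mul.1 h7 with h | h
    · have h8 := Nat.le_of_dvd (by norm_num) (h.trans (Nat.gcd_dvd_left _ _))
      have := lt_of_prim hs0
      omega
    · exact hn h

end Cfsg.Agent.H325.Same
end

-- part: H453/OddM/Tools
section
prune_inst 0x3004000000000018000020000000100000020040800011400600020610000000080140000d001010000000000000000000000000000000000000000000000000000080080000200000000002000000000000000000000000000000041000000000000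
set_option linter.all false
open scoped Cfsg.Agent.FastGrp

-- part: H453/OddM/Reduce
section
/-!
# S4785: reduction to simple groups (TEAM ODDM)
-/

set_option autoImplicit false
open Cfsg
open scoped ComplexConjugate commutatorElement

namespace Cfsg.Agent.H453.OddM

open Cfsg.Agent.Characters.Core Cfsg.Agent.OddOrderCharacters Cfsg.Agent.OddOrderCharacters.IndRes

universe u v w

/-- Inner products along a surjective homomorphism (after helper693). -/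
theorem classInner_comp_surj {M N : Type*} [Group M] [Fintype M] [Group N] [Fintype N]
    (p : M →* N) (hp : Function.Surjective p) (f g : N → ℂ) :
    classInner (fun x => f (p x)) (fun x => g (p x)) = classInner f g := by
  classical
  rw [classInner_def, classInner_def]
  have hfib : ∀ y : N, (Finset.univ.filter (fun x : M => p x = y)).card = Nat.card p.ker := by
    intro y
    obtain ⟨x₀, rfl⟩ := hp y
    rw [← Fintype.card_subtype, ← Nat.card_eq_fintype_card]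
    refine Nat.card_congr ⟨fun x => ⟨x₀⁻¹ * x, ?_⟩, fun k => ⟨x₀ * k, ?_⟩, ?_, ?_⟩
    · rw [MonoidHom.mem_ker, map_mul, map_inv, x.2, inv_mul_cancel]
    · rw [map_mul, MonoidHom.mem_ker.1 k.2, mul_one]
    · intro x
      exact Subtype.ext (mul_inv_cancel_left _ _)
    · intro k
      exact Subtype.ext (inv_mul_cancel_left _ _)
  have h1 : ∑ x : M, f (p x) * conj (g (p x)) =
      Nat.card p.ker * ∑ y : N, f y * conj (g y) := by
    rw [← Finset.sum_fiberwise Finset.univ p, Finset.mul_sum]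
    refine Finset.sum_congr rfl fun y _ => ?_
    rw [Finset.sum_congr rfl (g := fun _ => f y * conj (g y)) (fun x hx => by
      rw [(Finset.mem_filter.1 hx).2]), Finset.sum_const, hfib, nsmul_eq_mul]
  rw [h1]
  have h2 : (Nat.card M : ℂ) = Nat.card p.ker * Nat.card N := by
    have h3 := p.ker.card_mul_index
    rw [Subgroup.index_ker, MonoidHom.range_eq_top.2 hp, Subgroup.card_top] at h3
    exact_mod_cast h3.symm
  have h4 : (Nat.card p.ker : ℂ) ≠ 0 := card_ne_zero_complex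
  have h5 : (Nat.card N : ℂ) ≠ 0 := card_ne_zero_complex
  rw [h2]
  field_simp

section steps

variable {G : Type u} [Group G] [Fintype G]

/-- passage to the quotient by a normal subgroup -/
theorem Par.quot {H : Subgroup G} (h : Par G (G ⧸ H)) (L : Subgroup G) [L.Normal] [Fintype (G ⧸ L)] :
    Par (G ⧸ L) ((G ⧸ L) ⧸ H.map (QuotientGroup.mk' L)) := by
  classical
  have := Fintype.ofFinite H
  have := Fintype.ofFinite (H.map (QuotientGroup.mk' L))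
  intro ψ h1 h2
  obtain ⟨k, hk⟩ := h (fun x => ψ (QuotientGroup.mk' L x)) (isCharacter_comp (QuotientGroup.mk' L) h1)
    (fun g => h2 _)
  refine ⟨k, ?_⟩
  rw [← hk]
  congr 1
  · have hcf : IsClassFunction G (fun x => ψ (QuotientGroup.mk' L x)) :=
      isCharacter_isClassFunction (isCharacter_comp (QuotientGroup.mk' L) h1)
    rw [← fixN_quot, ← fixN_quot, classInner_indFun_left _ _ (isCharacter_isClassFunction h1),
      classInner_indFun_left _ _ hcf]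
    let p : H →* H.map (QuotientGroup.mk' L) := (QuotientGroup.mk' L).subgroupMap H
    have hp : Function.Surjective p := (QuotientGroup.mk' L).subgroupMap_surjective H
    exact (classInner_comp_surj p hp (fun _ => 1) (IndRes.res (H.map (QuotientGroup.mk' L)) ψ)).symm
  · exact (classInner_comp_surj (QuotientGroup.mk' L) (QuotientGroup.mk'_surjective L) (fun _ => 1) ψ).symm

/-- passage to a transitive normal subgroup -/
theorem Par.sub {H : Subgroup G} (h : Par G (G ⧸ H)) (N : Subgroup G) [N.Normal] [Fintype N] (hN : H ⊔ N = ⊤) :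
    Par N (N ⧸ H.subgroupOf N) := by
  classical
  have h1 := h.res N
  let f : N ⧸ H.subgroupOf N → G ⧸ H :=
    Quotient.map' (fun n : N => (n : G)) (fun a b hab => by
      rw [QuotientGroup.leftRel_apply] at hab ⊢
      exact hab)
  have hf : Function.Bijective f := by
    constructor
    · intro a b hab
      obtain ⟨a, rfl⟩ := QuotientGroup.mk_surjective a
      obtain ⟨b, rfl⟩ := QuotientGroup.mk_surjective b
      have h2 : (QuotientGroup.mk (a : G) : G ⧸ H) = QuotientGroup.mk (b : G) := hab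
      rw [QuotientGroup.eq] at h2 ⊢
      exact h2
    · intro c
      obtain ⟨g, rfl⟩ := QuotientGroup.mk_surjective c
      have hg : g⁻¹ ∈ H ⊔ N := by rw [hN]; trivial
      obtain ⟨x, hx, y, hy, hxy⟩ := Subgroup.mem_sup_of_normal_right.1 hg
      refine ⟨QuotientGroup.mk (⟨y, hy⟩⁻¹ : N), ?_⟩
      change (QuotientGroup.mk ((⟨y, hy⟩⁻¹ : N) : G) : G ⧸ H) = QuotientGroup.mk g
      rw [QuotientGroup.eq]
      have h3 : g = y⁻¹ * x⁻¹ := by rw [← mul_inv_rev, hxy, inv_inv]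
      rw [h3]
      simpa using hx
  refine h1.congr (Equiv.ofBijective f hf).symm ?_
  intro g ω
  rw [Equiv.symm_apply_eq]
  obtain ⟨w, rfl⟩ := hf.2 ω
  have h4 : (Equiv.ofBijective f hf).symm (f w) = w := (Equiv.ofBijective f hf).symm_apply_apply w
  rw [h4]
  obtain ⟨a, rfl⟩ := QuotientGroup.mk_surjective w
  rfl

end steps

/-- the abelian case -/
theorem abelian_case {G : Type u} [Group G] [Finite G] (hO : ∀ N : Subgroup G, N.Normal → Odd N.index → N = ⊤)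
    {H : Subgroup G} (h : RO G H) (hH : H ≠ ⊤) (N : Subgroup G) [hNn : N.Normal] (hN : H ⊔ N = ⊤)
    (hmin : ∀ K : Subgroup G, K.Normal → K ≤ N → K = ⊥ ∨ K = N) (hab : ∀ a ∈ N, ∀ b ∈ N, a * b = b * a) : False := by
  -- a1
  have h1 : (H ⊓ N).Normal := by
    rw [← Subgroup.normalizer_eq_top_iff, eq_top_iff, ← hN]
    refine sup_le ?_ ?_
    · intro x hx
      rw [Subgroup.mem_normalizer_iff]
      intro y
      constructor
      · intro hy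
        exact ⟨H.mul_mem (H.mul_mem hx hy.1) (H.inv_mem hx), hNn.conj_mem y hy.2 x⟩
      · intro hy
        have e : y = x⁻¹ * (x * y * x⁻¹) * x⁻¹⁻¹ := by group
        rw [e]
        exact ⟨H.mul_mem (H.mul_mem (H.inv_mem hx) hy.1) (H.inv_mem (H.inv_mem hx)), hNn.conj_mem _ hy.2 x⁻¹⟩
    · intro x hx
      rw [Subgroup.mem_normalizer_iff]
      intro y
      constructor
      · intro hy
        have e : x * y * x⁻¹ = y := by rw [hab x hx y hy.2, mul_inv_cancel_right]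
        rw [e]; exact hy
      · intro hy
        have hyN : y ∈ N := by
          have := hNn.conj_mem _ hy.2 x⁻¹
          simpa [mul_assoc] using this
        have e : x * y * x⁻¹ = y := by rw [hab x hx y hyN, mul_inv_cancel_right]
        rwa [e] at hy
  have hNH : ¬ N ≤ H := fun hle => hH (by rw [← hN, sup_eq_left.2 hle])
  have h2 : H ⊓ N = ⊥ := by
    rcases hmin _ h1 inf_le_right with h | h
    · exact h
    · exact absurd (inf_eq_right.1 h) hNH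
  -- a3
  have h3 : ∀ y ∈ N, IsReal y → y = 1 := by
    intro y hy hr
    obtain ⟨g, hg⟩ := h.exists_conj hr
    have h4 : g * y * g⁻¹ ∈ H ⊓ N := ⟨hg, hNn.conj_mem y hy g⟩
    rw [h2, Subgroup.mem_bot] at h4
    have h5 : y = g⁻¹ * (g * y * g⁻¹) * g := by group
    rw [h5, h4]; group
  -- a4
  have h4 : ∀ t : G, t ^ 2 ∈ Subgroup.centralizer (N : Set G) → t ∈ Subgroup.centralizer (N : Set G) := by
    intro t ht
    rw [Subgroup.mem_centralizer_iff] at ht ⊢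
    intro n hn
    have h5 : n⁻¹ * (t * n * t⁻¹) = 1 := by
      refine h3 _ (N.mul_mem (N.inv_mem hn) (hNn.conj_mem n hn t)) ⟨t, ?_⟩
      have h6 : t * (t * n * t⁻¹) * t⁻¹ = n := by
        have h7 := ht n hn
        calc t * (t * n * t⁻¹) * t⁻¹ = (t * t) * n * (t * t)⁻¹ := by group
          _ = n := by rw [← sq, ← h7, mul_inv_cancel_right]
      have h8 : t * n⁻¹ * t⁻¹ ∈ N := hNn.conj_mem _ (N.inv_mem hn) t
      calc t * (n⁻¹ * (t * n * t⁻¹)) * t⁻¹ = (t * n⁻¹ * t⁻¹) * (t * (t * n * t⁻¹) * t⁻¹) := by group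
        _ = (t * n⁻¹ * t⁻¹) * n := by rw [h6]
        _ = (n⁻¹ * (t * n * t⁻¹))⁻¹ := by group
    have h9 : t * n * t⁻¹ = n := by
      have := congrArg (fun z => n * z) h5
      simpa only [mul_assoc, _root_.mul_inv_cancel_left, _root_.mul_one] using this
    calc n * t = (t * n * t⁻¹) * t := by rw [h9]
      _ = t * n := by group
  -- a5
  have h5 : (Subgroup.centralizer (N : Set G)) = ⊤ := by
    refine hO _ inferInstance ?_
    by_contra hodd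
    rw [Nat.not_odd_iff_even, even_iff_two_dvd] at hodd
    have : Finite (G ⧸ Subgroup.centralizer (N : Set G)) := inferInstance
    obtain ⟨x, hx⟩ := exists_prime_orderOf_dvd_card' (G := G ⧸ Subgroup.centralizer (N : Set G)) 2 hodd
    obtain ⟨t, rfl⟩ := QuotientGroup.mk_surjective x
    have h6 : t ^ 2 ∈ Subgroup.centralizer (N : Set G) := by
      rw [← QuotientGroup.eq_one_iff, QuotientGroup.mk_pow, ← hx]
      exact pow_orderOf_eq_one _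
    have h7 := (QuotientGroup.eq_one_iff t).2 (h4 t h6)
    rw [h7, orderOf_one] at hx
    exact absurd hx (by decide)
  -- a6
  have h6 : H.Normal := by
    rw [← Subgroup.normalizer_eq_top_iff, eq_top_iff, ← hN]
    refine sup_le Subgroup.le_normalizer ?_
    intro x hx
    have hc : ∀ y : G, x * y = y * x := by
      intro y
      have : y ∈ Subgroup.centralizer (N : Set G) := by rw [h5]; trivial
      exact Subgroup.mem_centralizer_iff.1 this x hx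
    rw [Subgroup.mem_normalizer_iff]
    intro y
    rw [hc y, mul_inv_cancel_right]
  exact hH (hO H h6 h.odd_index)

/-- the normal subgroup generated by the `2`-elements of `N` -/
def twoGen {G : Type u} [Group G] (N : Subgroup G) : Subgroup G :=
  Subgroup.normalClosure {x | x ∈ N ∧ ∃ k : ℕ, x ^ (2 ^ k) = 1}

theorem twoGen_le {G : Type u} [Group G] (N : Subgroup G) [N.Normal] : twoGen N ≤ N :=
  Subgroup.normalClosure_le_normal fun _ hx => hx.1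

/-- a normal subgroup of odd index of `N` contains the `2`-elements -/
theorem twoGen_le_map {G : Type u} [Group G] (N : Subgroup G) [hN : N.Normal] (M : Subgroup N) [hM : M.Normal]
    (h : Odd M.index) : twoGen N ≤ M.map N.subtype := by
  unfold twoGen Subgroup.normalClosure
  rw [Subgroup.closure_le]
  intro y hy
  obtain ⟨x, ⟨hx, k, hk⟩, hxy⟩ := Group.mem_conjugatesOfSet_iff.1 hy
  obtain ⟨c, hc⟩ := isConj_iff.1 hxy
  have hyN : y ∈ N := by rw [← hc]; exact hN.conj_mem x hx c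
  have hyk : y ^ (2 ^ k) = 1 := by
    rw [← hc, conj_pow, hk, mul_one, mul_inv_cancel]
  refine ⟨⟨y, hyN⟩, ?_, rfl⟩
  have h1 : ((⟨y, hyN⟩ : N) : N ⧸ M) ^ (2 ^ k) = 1 := by
    rw [← QuotientGroup.mk_pow]
    have : (⟨y, hyN⟩ : N) ^ (2 ^ k) = 1 := Subtype.ext hyk
    rw [this]; rfl
  have h2 : orderOf ((⟨y, hyN⟩ : N) : N ⧸ M) ∣ 2 ^ k := orderOf_dvd_of_pow_eq_one h1
  have h3 : orderOf ((⟨y, hyN⟩ : N) : N ⧸ M) ∣ M.index := orderOf_dvd_natCard _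
  have h4 : Nat.Coprime (2 ^ k) M.index := Nat.Coprime.pow_left k (Nat.coprime_two_left.2 h)
  have h5 : orderOf ((⟨y, hyN⟩ : N) : N ⧸ M) = 1 := Nat.eq_one_of_dvd_coprimes h4 h2 h3
  exact (QuotientGroup.eq_one_iff _).1 (orderOf_eq_one_iff.1 h5)

end Cfsg.Agent.H453.OddM
end

-- part: H453/OddM/Mod8
section
/-!
# Perfect groups: the number of fixed points of an involution modulo `8` (TEAM ODDM, S4785)
-/

set_option autoImplicit false
open Cfsg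
open scoped ComplexConjugate

namespace Cfsg.Agent.H453.OddM

open Cfsg.Agent.Characters.Core Cfsg.Agent.OddOrderCharacters.IndRes Cfsg.Agent.SmallSimple.DetKernel

universe u v w

/-- A representation of a perfect group has determinant one. -/
theorem det_eq_one {G : Type*} [Group G] (hperf : commutator G = ⊤) {V : Type*}
    [AddCommGroup V] [Module ℂ V] (ρ : Representation ℂ G V) (g : G) :
    LinearMap.det (ρ g) = 1 := by
  let f : G →* ℂ := (LinearMap.det : (V →ₗ[ℂ] V) →* ℂ).comp ρ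
  have h1 : g ∈ commutator G := by rw [hperf]; trivial
  have h2 : commutator G ≤ f.toHomUnits.ker := Abelianization.commutator_subset_ker _
  have h3 := congrArg Units.val ((MonoidHom.mem_ker).mp (h2 h1))
  simpa only [f, _root_.MonoidHom.coe_toHomUnits, _root_.MonoidHom.coe_comp, _root_.Function.comp_apply, _root_.Units.val_one] using h3

theorem sum_signs {ι : Type*} [Fintype ι] (c : ι → ℂ) (hc : ∀ i, c i ^ 2 = 1) (hp : ∏ i, c i = 1) :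
    ∃ k : ℕ, ∑ i, c i = Fintype.card ι - 4 * k := by
  classical
  have h1 : ∀ i, c i = 1 ∨ c i = -1 := fun i => sq_eq_one_iff.mp (hc i)
  have h2 : ∀ i, c i = 1 - 2 * (if c i = -1 then 1 else 0) := by
    intro i
    rcases h1 i with h | h
    · rw [h, if_neg (by norm_num)]; ring
    · rw [h, if_pos rfl]; ring
  have h3 : ∏ i, c i = (-1) ^ (Finset.univ.filter fun i => c i = -1).card := by
    rw [← Finset.prod_const, ← Finset.prod_filter_mul_prod_filter_not Finset.univ (fun i => c i = -1) c,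
      Finset.prod_congr rfl (g := fun _ => (-1 : ℂ)) (fun i hi => (Finset.mem_filter.1 hi).2)]
    have h4 : ∏ i ∈ Finset.univ.filter (fun i => ¬ c i = -1), c i = 1 :=
      Finset.prod_eq_one fun i hi => (h1 i).resolve_right (Finset.mem_filter.1 hi).2
    rw [h4, mul_one]
  rw [hp] at h3
  have h5 : Even (Finset.univ.filter fun i => c i = -1).card := by
    by_contra h
    rw [Nat.not_even_iff_odd] at h
    rw [h.neg_one_pow] at h3
    norm_num at h3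
  obtain ⟨k, hk⟩ := h5
  refine ⟨k, ?_⟩
  rw [Finset.sum_congr rfl (fun i _ => h2 i), Finset.sum_sub_distrib, ← Finset.mul_sum, Finset.sum_boole, hk]
  simp only [Finset.sum_const, Finset.card_univ, nsmul_eq_mul, mul_one]
  push_cast
  ring

theorem char_mod_four {G : Type u} [Group G] (hperf : commutator G = ⊤) {U : G → ℂ}
    (hU : IsCharacter G U) {t : G} (ht : t ^ 2 = 1) : ∃ k : ℕ, U t = U 1 - 4 * k := by
  classical
  obtain ⟨n, ρ, rfl⟩ := hU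
  have h1 : (ρ t) ^ 2 = 1 := by rw [← map_pow, ht, map_one]
  obtain ⟨b, c, h2, h3⟩ := Characters.GaloisBasic.exists_basis_eigenvectors (ρ t) two_ne_zero h1
  have h5 : ∏ j, c j = 1 := by rw [← det_of_basis b c (ρ t) h2]; exact det_eq_one hperf ρ t
  obtain ⟨k, hk⟩ := sum_signs c h3 h5
  refine ⟨k, ?_⟩
  have h6 : ρ.character t = ∑ j, c j := trace_of_basis b c (ρ t) h2
  rw [h6, hk, Representation.char_one]
  simp only [_root_.Module.finrank_fintype_fun_eq_card, _root_.Fintype.card_fin]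

section

variable {G : Type u} [Group G] [Fintype G] [Fintype (IrrCharacter G)]

/-- `π = 1 + U + conj U` -/
theorem Par.exists_half (H : Subgroup G) (h : Par G (G ⧸ H)) :
    ∃ U : G → ℂ, IsCharacter G U ∧ ∀ g, fixN G (G ⧸ H) g = 1 + U g + conj (U g) := by
  classical
  obtain ⟨a, ha⟩ := isCharacter_iff.1 (isCharacter_fixN H)
  have ha1 : ∀ χ : IrrCharacter G, classInner (fixN G (G ⧸ H)) (χ : G → ℂ) = a χ := fun χ => by
    rw [ha, classInner_sum_nsmul_irr]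
  have hac := coeff_cj rv_fixN ha
  have hone : cj (iOne G) = iOne G := (cj_eq_iff _).2 rv_one
  have h1 : a (iOne G) = 1 := by
    have := Fintype.ofFinite H
    have h2 := ha1 (iOne G)
    have h3 : classInner (fixN G (G ⧸ H)) (iOne G : G → ℂ) = 1 := by
      rw [← fixN_quot, classInner_indFun_left H _ (fun _ _ => rfl)]
      exact classInner_one_one
    rw [h3] at h2
    exact_mod_cast h2.symm
  let δ : IrrCharacter G → ℕ := fun χ => if χ = iOne G then 1 else 0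
  have hδc : ∀ χ, δ (cj χ) = δ χ := by
    intro χ
    have h2 : (cj χ = iOne G) ↔ (χ = iOne G) := by
      constructor
      · intro h3
        have h4 := congrArg cj h3
        rwa [cj_cj, hone] at h4
      · rintro rfl; exact hone
    simp only [δ, h2]
  have hev : ∀ χ, cj χ = χ → ∃ k : ℕ, a χ = δ χ + 2 * k := by
    intro χ h2
    by_cases h3 : χ = iOne G
    · subst h3
      exact ⟨0, by simp only [δ, if_true, h1]⟩
    · obtain ⟨k, hk⟩ := h χ (isIrr_isCharacter χ.2) ((cj_eq_iff χ).1 h2)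
      have h4 : classInner (fun _ => 1) (χ : G → ℂ) = 0 :=
        classInner_irr_ne (iOne G).2 χ.2 (fun h4 => h3 (Subtype.ext h4.symm))
      rw [ha1, h4, sub_zero] at hk
      have h5 : (a χ : ℤ) = 2 * k := by exact_mod_cast hk
      refine ⟨k.toNat, ?_⟩
      simp only [δ, if_neg h3]
      omega
  let e := Fintype.equivFin (IrrCharacter G)
  let c : IrrCharacter G → ℕ := fun χ => if cj χ = χ then (a χ - δ χ) / 2 else if e χ < e (cj χ) then a χ else 0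
  have hc : ∀ χ, a χ = δ χ + c χ + c (cj χ) := by
    intro χ
    by_cases h2 : cj χ = χ
    · obtain ⟨k, hk⟩ := hev χ h2
      simp only [c, h2, if_true]
      omega
    · have h3 : ¬ cj (cj χ) = cj χ := by rw [cj_cj]; exact fun h3 => h2 h3.symm
      have h4 : χ ≠ iOne G := by rintro rfl; exact h2 hone
      have h5 : δ χ = 0 := by simp only [δ, if_neg h4]
      have h6 : e χ ≠ e (cj χ) := fun h6 => h2 (e.injective h6).symm
      simp only [c]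
      rw [if_neg h2, if_neg h3, cj_cj, h5, hac]
      rcases lt_or_gt_of_ne h6 with h7 | h7
      · rw [if_pos h7, if_neg (not_lt.2 h7.le)]; omega
      · rw [if_neg (not_lt.2 h7.le), if_pos h7]; omega
  refine ⟨∑ χ, c χ • (χ : G → ℂ), isCharacter_iff.2 ⟨c, rfl⟩, fun g => ?_⟩
  have e1 : conj ((∑ χ, c χ • (χ : G → ℂ)) g) = ∑ χ : IrrCharacter G, (c (cj χ) : ℂ) * (χ : G → ℂ) g := by
    rw [Finset.sum_apply, map_sum]
    let cjE : IrrCharacter G ≃ IrrCharacter G := ⟨cj, cj, cj_cj, cj_cj⟩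
    refine Fintype.sum_equiv cjE _ _ fun χ => ?_
    change conj ((c χ • (χ : G → ℂ)) g) = (c (cj (cj χ)) : ℂ) * conj ((χ : G → ℂ) g)
    rw [cj_cj, Pi.smul_apply, nsmul_eq_mul, map_mul, Complex.conj_natCast]
  rw [e1, ha]
  have e2 : (1 : ℂ) = ∑ χ : IrrCharacter G, (δ χ : ℂ) * (χ : G → ℂ) g := by
    simp only [δ]
    push_cast
    simp only [ite_mul, one_mul, zero_mul]
    rw [Finset.sum_ite_eq' Finset.univ (iOne G), if_pos (Finset.mem_univ _)]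
    rfl
  conv_rhs => rw [e2]
  simp only [Finset.sum_apply, nsmul_eq_mul]
  rw [← Finset.sum_add_distrib, ← Finset.sum_add_distrib]
  refine Finset.sum_congr rfl fun χ _ => ?_
  rw [hc χ]
  push_cast
  simp only [Pi.mul_apply, Pi.add_apply, Pi.natCast_apply]
  ring

end

/-- **For a perfect group the number of fixed points of an involution is congruent to the degree modulo `8`.** -/
theorem Par.mod_eight {G : Type u} [Group G] [Fintype G] (hperf : commutator G = ⊤) (H : Subgroup G)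
    (h : Par G (G ⧸ H)) {t : G} (ht : t ^ 2 = 1) :
    Nat.card {ω : G ⧸ H // t • ω = ω} ≡ H.index [MOD 8] := by
  classical
  have := finite_irr (G := G)
  have := Fintype.ofFinite (IrrCharacter G)
  obtain ⟨U, hU, h1⟩ := Par.exists_half H h
  obtain ⟨k, hk⟩ := char_mod_four hperf hU ht
  obtain ⟨n, hn⟩ := isCharacter_apply_one hU
  have h2 := h1 t
  have h3 := h1 1
  rw [hk, hn] at h2
  rw [hn] at h3
  have e1 : fixN G (G ⧸ H) t = (Nat.card {ω : G ⧸ H // t • ω = ω} : ℂ) := rfl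
  have e2 : fixN G (G ⧸ H) 1 = (H.index : ℂ) := by rw [fixN_one]; rfl
  rw [e1] at h2
  rw [e2] at h3
  simp only [map_sub, map_mul, Complex.conj_natCast, map_ofNat] at h2 h3
  have h4 : ((Nat.card {ω : G ⧸ H // t • ω = ω} : ℤ) : ℂ) = ((H.index - 8 * k : ℤ) : ℂ) := by
    push_cast
    rw [h2, h3]
    ring
  have h5 : (Nat.card {ω : G ⧸ H // t • ω = ω} : ℤ) = H.index - 8 * k := by exact_mod_cast h4
  rw [← Int.natCast_modEq_iff, h5]
  exact (Int.modEq_iff_dvd).2 ⟨k, by push_cast; ring⟩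

end Cfsg.Agent.H453.OddM
end

-- part: H453/OddM/Tools
section
/-!
# Tools for the rows of TEAM ODDM (S4785)

* `RO.orb`     : the number of orbits of `R` on `T ⧸ K` is odd, for every `K`
* `RO.sub`     : `RO` passes to a subgroup `L` which is transitive on `T ⧸ R`
* `RO8`, `Row8`: `RO` together with `fix t ≡ |T : R| (mod 8)` for all involutions `t`; a row may prove `Row8 T`
                 instead of `Row T`
* `s4785_of_rows8` : S4785 from `Row8`.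
-/

set_option autoImplicit false
open Cfsg
open scoped ComplexConjugate commutatorElement

namespace Cfsg.Agent.H453.OddM

universe u v w

open Cfsg.Agent.Characters.Core Cfsg.Agent.OddOrderCharacters Cfsg.Agent.OddOrderCharacters.IndRes

/-- two surjections with the same fibres -/
theorem card_eq_of_fibres {X : Type u} {A : Type v} {B : Type w} (f : X → A) (g : X → B)
    (hf : Function.Surjective f) (hg : Function.Surjective g) (h : ∀ x y, f x = f y ↔ g x = g y) :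
    Nat.card A = Nat.card B := by
  refine Nat.card_congr (Equiv.ofBijective (fun a => g (Function.surjInv hf a)) ⟨fun a b hab => ?_, fun b => ?_⟩)
  · have h1 := (h _ _).2 hab
    rwa [Function.surjInv_eq hf, Function.surjInv_eq hf] at h1
  · obtain ⟨x, rfl⟩ := hg b
    exact ⟨f x, (h _ _).1 (Function.surjInv_eq hf (f x))⟩

section

variable {T : Type u} [Group T]

/-- orbits of `K` on `T ⧸ R` and of `R` on `T ⧸ K` -/
theorem card_orb_symm (K R : Subgroup T) :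
    Nat.card (MulAction.orbitRel.Quotient K (T ⧸ R)) = Nat.card (MulAction.orbitRel.Quotient R (T ⧸ K)) := by
  let f : T → MulAction.orbitRel.Quotient K (T ⧸ R) := fun t => Quotient.mk _ (QuotientGroup.mk t)
  let g : T → MulAction.orbitRel.Quotient R (T ⧸ K) := fun t => Quotient.mk _ (QuotientGroup.mk t⁻¹)
  refine card_eq_of_fibres f g ?_ ?_ ?_
  · intro a
    obtain ⟨b, rfl⟩ := Quotient.mk_surjective a
    obtain ⟨t, rfl⟩ := QuotientGroup.mk_surjective b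
    exact ⟨t, rfl⟩
  · intro a
    obtain ⟨b, rfl⟩ := Quotient.mk_surjective a
    obtain ⟨t, rfl⟩ := QuotientGroup.mk_surjective b
    exact ⟨t⁻¹, by simp [g]⟩
  · intro x y
    have h1 : f x = f y ↔ ∃ k ∈ K, y⁻¹ * (k⁻¹ * x) ∈ R := by
      change Quotient.mk _ _ = Quotient.mk _ _ ↔ _
      rw [Quotient.eq, MulAction.orbitRel_apply]
      constructor
      · rintro ⟨⟨k, hk⟩, h⟩
        have h2 : (QuotientGroup.mk (k * y) : T ⧸ R) = QuotientGroup.mk x := h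
        rw [QuotientGroup.eq] at h2
        refine ⟨k, hk, ?_⟩
        have e : y⁻¹ * (k⁻¹ * x) = (k * y)⁻¹ * x := by group
        rw [e]; exact h2
      · rintro ⟨k, hk, h⟩
        refine ⟨⟨k, hk⟩, ?_⟩
        change (QuotientGroup.mk (k * y) : T ⧸ R) = QuotientGroup.mk x
        rw [QuotientGroup.eq]
        have e : y⁻¹ * (k⁻¹ * x) = (k * y)⁻¹ * x := by group
        rw [← e]; exact h
    have h2 : g x = g y ↔ ∃ r ∈ R, y * (r⁻¹ * x⁻¹) ∈ K := by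
      change Quotient.mk _ _ = Quotient.mk _ _ ↔ _
      rw [Quotient.eq, MulAction.orbitRel_apply]
      constructor
      · rintro ⟨⟨r, hr⟩, h⟩
        have h2 : (QuotientGroup.mk (r * y⁻¹) : T ⧸ K) = QuotientGroup.mk x⁻¹ := h
        rw [QuotientGroup.eq] at h2
        refine ⟨r, hr, ?_⟩
        have e : y * (r⁻¹ * x⁻¹) = (r * y⁻¹)⁻¹ * x⁻¹ := by group
        rw [e]; exact h2
      · rintro ⟨r, hr, h⟩
        refine ⟨⟨r, hr⟩, ?_⟩
        change (QuotientGroup.mk (r * y⁻¹) : T ⧸ K) = QuotientGroup.mk x⁻¹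
        rw [QuotientGroup.eq]
        have e : y * (r⁻¹ * x⁻¹) = (r * y⁻¹)⁻¹ * x⁻¹ := by group
        rw [← e]; exact h
    rw [h1, h2]
    constructor
    · rintro ⟨k, hk, h⟩
      refine ⟨(y⁻¹ * (k⁻¹ * x))⁻¹, R.inv_mem h, ?_⟩
      have e : y * ((y⁻¹ * (k⁻¹ * x))⁻¹⁻¹ * x⁻¹) = k⁻¹ := by group
      rw [e]; exact K.inv_mem hk
    · rintro ⟨r, hr, h⟩
      refine ⟨(y * (r⁻¹ * x⁻¹))⁻¹, K.inv_mem h, ?_⟩
      have e : y⁻¹ * ((y * (r⁻¹ * x⁻¹))⁻¹⁻¹ * x) = r⁻¹ := by group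
      rw [e]; exact R.inv_mem hr

/-- the number of orbits of `R` on `T ⧸ K` is odd -/
theorem RO.orb {R : Subgroup T} (h : RO T R) (K : Subgroup T) :
    Odd (Nat.card (MulAction.orbitRel.Quotient R (T ⧸ K))) := by
  rw [← card_orb_symm]
  exact h.odd_orb K

/-- the bijection for a transitive subgroup -/
theorem sub_bij (L R : Subgroup T) (hL : ∀ t : T, ∃ l ∈ L, l⁻¹ * t ∈ R) :
    ∃ f : L ⧸ R.subgroupOf L ≃ T ⧸ R, ∀ (l : L) (ω : L ⧸ R.subgroupOf L), f (l • ω) = (l : T) • f ω := by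
  let f : L ⧸ R.subgroupOf L → T ⧸ R :=
    Quotient.map' (fun n : L => (n : T)) (fun a b hab => by
      rw [QuotientGroup.leftRel_apply] at hab ⊢
      exact hab)
  have hf : Function.Bijective f := by
    constructor
    · intro a b hab
      obtain ⟨a, rfl⟩ := QuotientGroup.mk_surjective a
      obtain ⟨b, rfl⟩ := QuotientGroup.mk_surjective b
      have h2 : (QuotientGroup.mk (a : T) : T ⧸ R) = QuotientGroup.mk (b : T) := hab
      rw [QuotientGroup.eq] at h2 ⊢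
      exact h2
    · intro c
      obtain ⟨g, rfl⟩ := QuotientGroup.mk_surjective c
      obtain ⟨l, hl, hlg⟩ := hL g
      refine ⟨QuotientGroup.mk (⟨l, hl⟩ : L), ?_⟩
      change (QuotientGroup.mk l : T ⧸ R) = QuotientGroup.mk g
      rw [QuotientGroup.eq]
      exact hlg
  refine ⟨Equiv.ofBijective f hf, fun l ω => ?_⟩
  obtain ⟨a, rfl⟩ := QuotientGroup.mk_surjective ω
  rfl

/-- `RO` passes to a subgroup `L` which is transitive on `T ⧸ R` -/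
theorem RO.sub {R : Subgroup T} (h : RO T R) (L : Subgroup T) (hL : ∀ t : T, ∃ l ∈ L, l⁻¹ * t ∈ R) :
    RO L (R.subgroupOf L) := by
  obtain ⟨f, hf⟩ := sub_bij L R hL
  refine ⟨?_, fun x hx => ?_, fun K => ?_⟩
  · have h1 : (R.subgroupOf L).index = R.index := Nat.card_congr f
    rw [h1]; exact h.odd_index
  · have h1 : Nat.card {ω : L ⧸ R.subgroupOf L // x • ω = ω} = Nat.card {ω : T ⧸ R // (x : T) • ω = ω} := by
      refine Nat.card_congr (f.subtypeEquiv fun ω => ?_)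
      rw [← hf, f.apply_eq_iff_eq]
    rw [h1]
    exact h.odd_fix _ hx.coe
  · have h1 : Nat.card (MulAction.orbitRel.Quotient K (L ⧸ R.subgroupOf L)) =
        Nat.card (MulAction.orbitRel.Quotient (K.map L.subtype) (T ⧸ R)) := by
      refine Nat.card_congr (Quotient.congr f fun a b => ?_)
      rw [MulAction.orbitRel_apply, MulAction.orbitRel_apply]
      constructor
      · rintro ⟨⟨l, hl⟩, rfl⟩
        exact ⟨⟨l, ⟨l, hl, rfl⟩⟩, (hf l b).symm⟩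
      · rintro ⟨⟨_, ⟨l, hl, rfl⟩⟩, hb⟩
        refine ⟨⟨l, hl⟩, f.injective ?_⟩
        rw [← hb]
        exact hf l b
    rw [h1]
    exact h.odd_orb _

end

/-- `RO` together with the congruence modulo `8` for involutions (valid in perfect groups) -/
structure RO8 (T : Type u) [Group T] (R : Subgroup T) : Prop extends RO T R where
  mod_eight : ∀ t : T, t ^ 2 = 1 → Nat.card {ω : T ⧸ R // t • ω = ω} ≡ R.index [MOD 8]

/-- a row may prove this instead of `Row T` -/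
def Row8 (T : Type u) [Group T] : Prop := ∀ R : Subgroup T, RO8 T R → R = ⊤

theorem Row.row8 {T : Type u} [Group T] (h : Row T) : Row8 T := fun R hR => h R hR.toRO

/-- `RO8` passes to a transitive subgroup -/
theorem RO8.sub {T : Type u} [Group T] {R : Subgroup T} (h : RO8 T R) (L : Subgroup T)
    (hL : ∀ t : T, ∃ l ∈ L, l⁻¹ * t ∈ R) : RO8 L (R.subgroupOf L) := by
  obtain ⟨f, hf⟩ := sub_bij L R hL
  refine ⟨h.toRO.sub L hL, fun t ht => ?_⟩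
  have h1 : (R.subgroupOf L).index = R.index := Nat.card_congr f
  have h2 : Nat.card {ω : L ⧸ R.subgroupOf L // t • ω = ω} = Nat.card {ω : T ⧸ R // (t : T) • ω = ω} := by
    refine Nat.card_congr (f.subtypeEquiv fun ω => ?_)
    rw [← hf, f.apply_eq_iff_eq]
  rw [h1, h2]
  exact h.mod_eight t (by rw [← Subgroup.coe_pow, ht]; rfl)

theorem RO8.comap {T : Type u} {S : Type v} [Group T] [Group S] {K : Subgroup S} (e : T ≃* S) (h : RO8 S K) :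
    RO8 T (K.comap e.toMonoidHom) := by
  let f : T ⧸ K.comap e.toMonoidHom ≃ S ⧸ K :=
    Quotient.congr e.toEquiv (fun a b => by
      rw [QuotientGroup.leftRel_apply, QuotientGroup.leftRel_apply]
      simp only [_root_.MulEquiv.toMonoidHom_eq_coe, _root_.Subgroup.mem_comap, _root_.MonoidHom.coe_coe, _root_.map_mul, _root_.map_inv, _root_.MulEquiv.toEquiv_eq_coe, _root_.EquivLike.coe_coe])
  have hf : ∀ (t : T) (ω : T ⧸ K.comap e.toMonoidHom), f (t • ω) = e t • f ω := by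
    intro t ω
    obtain ⟨g, rfl⟩ := QuotientGroup.mk_surjective ω
    change (QuotientGroup.mk (e (t * g)) : S ⧸ K) = QuotientGroup.mk (e t * e g)
    rw [map_mul]
  refine ⟨h.toRO.comap e, fun t ht => ?_⟩
  have h1 : (K.comap e.toMonoidHom).index = K.index := Nat.card_congr f
  have h2 : Nat.card {ω : T ⧸ K.comap e.toMonoidHom // t • ω = ω} = Nat.card {ω : S ⧸ K // e t • ω = ω} := by
    refine Nat.card_congr (f.subtypeEquiv fun ω => ?_)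
    rw [← hf, f.apply_eq_iff_eq]
  rw [h1, h2]
  exact h.mod_eight (e t) (by rw [← map_pow, ht, map_one])

theorem Row8.congr {T : Type u} {S : Type v} [Group T] [Group S] (e : T ≃* S) (h : Row8 T) : Row8 S := by
  intro K hK
  have h1 := h _ (hK.comap e)
  rw [eq_top_iff] at h1 ⊢
  intro s _
  have h2 := h1 (Subgroup.mem_top (e.symm s))
  simpa using h2

theorem reduce_aux_par
    (hrow : ∀ (T : Type u) [Group T] [Finite T] [IsSimpleGroup T], (¬ ∀ a b : T, a * b = b * a) →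
      ∀ (_ : Fintype T) (R : Subgroup T), Par T (T ⧸ R) → R = ⊤) :
    ∀ (n : ℕ) (G : Type u) [Group G] [Fintype G], Nat.card G = n →
      (∀ N : Subgroup G, N.Normal → Odd N.index → N = ⊤) → ∀ H : Subgroup G, Par G (G ⧸ H) → H = ⊤ := by
  intro n
  induction n using Nat.strong_induction_on with
  | _ n ih =>
  intro G _ _ hn hO H h
  classical
  by_contra hH
  -- `N` minimal normal with `H N = G`
  obtain ⟨N, hN⟩ := (Set.toFinite {N : Subgroup G | N.Normal ∧ H ⊔ N = ⊤}).exists_minimal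
    ⟨⊤, inferInstance, sup_top_eq H⟩
  obtain ⟨⟨hNn, hNt⟩, hNmin⟩ := hN
  have hN0 : N ≠ ⊥ := by rintro rfl; rw [sup_bot_eq] at hNt; exact hH hNt
  -- `L` maximal normal below `N`
  obtain ⟨L, hL⟩ := (Set.toFinite {L : Subgroup G | L.Normal ∧ L ≤ N ∧ L ≠ N}).exists_maximal
    ⟨⊥, inferInstance, bot_le, hN0.symm⟩
  obtain ⟨⟨hLn, hLN, hLne⟩, hLmax⟩ := hL
  have hHL : H ⊔ L ≠ ⊤ := fun h1 => hLne (le_antisymm hLN (hNmin ⟨hLn, h1⟩ hLN))
  by_cases hL0 : L = ⊥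
  · subst hL0
    have hmin : ∀ K : Subgroup G, K.Normal → K ≤ N → K = ⊥ ∨ K = N := by
      intro K hK hKN
      by_cases h1 : K = N
      · exact Or.inr h1
      · exact Or.inl (le_bot_iff.1 (hLmax ⟨hK, hKN, h1⟩ bot_le))
    have hro : RO G H := Par.ro H h
    by_cases hab : ∀ a ∈ N, ∀ b ∈ N, a * b = b * a
    · exact abelian_case hO hro hH N hNt hmin hab
    · by_cases hNtop : N = ⊤
      · subst hNtop
        have hs : IsSimpleGroup G :=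
          { exists_pair_ne := by
              obtain ⟨x, -, hx⟩ := (Subgroup.ne_bot_iff_exists_ne_one (H := (⊤ : Subgroup G))).1 hN0 |>.elim
                (fun a ha => (⟨(a : G), trivial, fun h => ha (Subtype.ext h)⟩ : ∃ x : G, True ∧ x ≠ 1))
              exact ⟨x, 1, hx⟩
            eq_bot_or_eq_top_of_normal := fun K hK => hmin K hK le_top }
        exact hH (hrow G (fun hc => hab fun a _ b _ => hc a b) _ H h)
      · -- induction for `N`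
        have hcard : Nat.card N < n := by
          rw [← hn]
          exact lt_of_le_of_ne (Subgroup.card_le_card_group N) (fun h1 => hNtop (Subgroup.eq_top_of_card_eq N h1))
        have hR : twoGen N = ⊥ ∨ twoGen N = N := hmin _ Subgroup.normalClosure_normal (twoGen_le N)
        have hRN : twoGen N = N := by
          refine hR.resolve_left fun h0 => ?_
          -- `N` has odd order, hence is solvable, hence abelian
          have hodd : Odd (Nat.card N) := by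
            by_contra h1
            rw [Nat.not_odd_iff_even, even_iff_two_dvd] at h1
            obtain ⟨x, hx⟩ := exists_prime_orderOf_dvd_card' 2 h1
            have h2 : (x : G) ∈ twoGen N := Subgroup.subset_normalClosure ⟨x.2, 1, by
              rw [pow_one, ← Subgroup.coe_pow, ← hx, pow_orderOf_eq_one]; rfl⟩
            rw [h0, Subgroup.mem_bot] at h2
            have h3 : x = 1 := Subtype.ext h2
            rw [h3, orderOf_one] at hx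
            exact absurd hx (by decide)
          have hsol : Group.IsSolvable N := S0205.result hodd
          have hc : ⁅N, N⁆ = ⊥ ∨ ⁅N, N⁆ = N := hmin _ inferInstance (Subgroup.commutator_le_right N N)
          rcases hc with hc | hc
          · exact hab fun a ha b hb => by
              have h2 : ⁅a, b⁆ ∈ ⁅N, N⁆ := Subgroup.commutator_mem_commutator ha hb
              rw [hc, Subgroup.mem_bot, commutatorElement_eq_one_iff_mul_comm] at h2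
              exact h2
          · have hnt : Nontrivial N := (Subgroup.nontrivial_iff_ne_bot N).2 hN0
            have h2 := Group.IsSolvable.commutator_lt_top_of_nontrivial (G := N)
            refine h2.ne (Subgroup.map_injective N.subtype_injective ?_)
            rw [Subgroup.map_subtype_commutator, hc, ← MonoidHom.range_eq_map, Subgroup.range_subtype]
        have ihN := ih _ hcard N rfl (by
          intro M hM hMo
          have h2 := twoGen_le_map N M hMo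
          rw [hRN] at h2
          rw [eq_top_iff]
          intro x _
          obtain ⟨y, hy, hyx⟩ := h2 x.2
          have h3 : y = x := Subtype.ext hyx
          rw [← h3]
          exact hy) (H.subgroupOf N) (h.sub N hNt)
        rw [Subgroup.subgroupOf_eq_top] at ihN
        exact hH (by rw [← hNt, sup_eq_left.2 ihN])
  · -- pass to `G / L`
    have hcard : Nat.card (G ⧸ L) < n := by
      have h1 := L.card_mul_index
      have h2 : 1 < Nat.card L := (Subgroup.one_lt_card_iff_ne_bot L).2 hL0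
      have h3 : 0 < L.index := Nat.pos_of_ne_zero L.index_ne_zero_of_finite
      change L.index < n
      rw [← hn, ← h1]
      nlinarith only [h2, h3]
    have := Fintype.ofFinite (G ⧸ L)
    have h1 := ih _ hcard (G ⧸ L) rfl (by
      intro K hK hKo
      have h2 : (K.comap (QuotientGroup.mk' L)).index = K.index :=
        Subgroup.index_comap_of_surjective K (QuotientGroup.mk'_surjective L)
      have h3 := hO (K.comap (QuotientGroup.mk' L)) inferInstance (by rw [h2]; exact hKo)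
      rw [eq_top_iff]
      intro x _
      obtain ⟨g, rfl⟩ := QuotientGroup.mk'_surjective L x
      have h4 : g ∈ K.comap (QuotientGroup.mk' L) := by rw [h3]; trivial
      exact h4) _ (h.quot L)
    apply hHL
    have h2 : (H.map (QuotientGroup.mk' L)).comap (QuotientGroup.mk' L) = H ⊔ L := by
      rw [Subgroup.comap_map_eq, QuotientGroup.ker_mk']
    rw [← h2, h1, Subgroup.comap_top]

/-- **S4785 from the rows.** -/
theorem s4785_of_rows8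
    (hrow : ∀ (T : Type u) [Group T] [Finite T] [IsSimpleGroup T], (¬ ∀ a b : T, a * b = b * a) → Row8 T)
    {G : Type u} [Group G] [Fintype G] (hO : ∀ N : Subgroup G, N.Normal → Odd N.index → N = ⊤) (H : Subgroup G)
    (hH : H ≠ ⊤) : ∃ χ : IrrCharacter G, (χ : G → ℂ) ≠ (fun _ => 1) ∧
      (∀ g : G, (starRingEnd ℂ) ((χ : G → ℂ) g) = (χ : G → ℂ) g) ∧
      ∃ m : ℕ, Odd m ∧ classInner (indFun H (fun _ : H => (1 : ℂ))) (χ : G → ℂ) = m := by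
  classical
  have hrow' : ∀ (T : Type u) [Group T] [Finite T] [IsSimpleGroup T], (¬ ∀ a b : T, a * b = b * a) →
      ∀ (_ : Fintype T) (R : Subgroup T), Par T (T ⧸ R) → R = ⊤ := by
    intro T _ _ hs hna hf R hR
    have hperf : commutator T = ⊤ := by
      rcases hs.eq_bot_or_eq_top_of_normal (commutator T) inferInstance with h | h
      · exact absurd (fun a b => by
          have h2 : ⁅a, b⁆ ∈ commutator T :=
            Subgroup.commutator_mem_commutator (Subgroup.mem_top a) (Subgroup.mem_top b)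
          rw [h, Subgroup.mem_bot, commutatorElement_eq_one_iff_mul_comm] at h2
          exact h2) hna
      · exact h
    exact hrow T hna R ⟨Par.ro R hR, fun t ht => Par.mod_eight hperf R hR ht⟩
  by_contra hcon
  have := finite_irr (G := G)
  have := Fintype.ofFinite (IrrCharacter G)
  refine hH (reduce_aux_par hrow' _ G rfl hO H (par_of_irr H fun χ h1 h2 m h3 h4 => hcon ⟨χ, h1, h2, m, h3, h4⟩))


end Cfsg.Agent.H453.OddM
end
end

-- part: H453/OddM/Asm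
section
set_option linter.all false

/-!
# Assembly of S4785 from the rows (TEAM ODDM)
-/

set_option autoImplicit false
open Cfsg

namespace Cfsg.Agent.H453.OddM

open Cfsg.Agent.OrdDiv Cfsg.Agent.H436

universe u

/-- the row for the name `g` -/
def RowN (g : Grp) : Prop :=
  ∀ (T : Type u) [Group T] [Finite T] [IsSimpleGroup T], IsNamed g T → Row8 T

/-- all rows -/
structure Rows : Prop where
  alt : ∀ n, RowN.{u} (.alt n)
  psl2 : ∀ n q, 2 ∣ q → RowN.{u} (.psl n q)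
  psp2 : ∀ n q, 2 ∣ q → RowN.{u} (.psp n q)
  psu2 : ∀ n q, 2 ∣ q → RowN.{u} (.psu n q)
  oplus2 : ∀ n q, 2 ∣ q → RowN.{u} (.oplus n q)
  ominus2 : ∀ n q, 2 ∣ q → RowN.{u} (.ominus n q)
  g22 : ∀ q, 2 ∣ q → RowN.{u} (.g2 q)
  f42 : ∀ q, 2 ∣ q → RowN.{u} (.f4 q)
  e62 : ∀ q, 2 ∣ q → RowN.{u} (.e6 q)
  e72 : ∀ q, 2 ∣ q → RowN.{u} (.e7 q)
  e82 : ∀ q, 2 ∣ q → RowN.{u} (.e8 q)
  te62 : ∀ q, 2 ∣ q → RowN.{u} (.te6 q)
  td42 : ∀ q, 2 ∣ q → RowN.{u} (.td4 q)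
  sz : ∀ q, RowN.{u} (.sz q)
  tf4 : ∀ q, RowN.{u} (.tf4 q)
  psl : ∀ n q, ¬ 2 ∣ q → RowN.{u} (.psl n q)
  psp : ∀ n q, ¬ 2 ∣ q → RowN.{u} (.psp n q)
  psu : ∀ n q, ¬ 2 ∣ q → RowN.{u} (.psu n q)
  oodd : ∀ n q, RowN.{u} (.oodd n q)
  oplus : ∀ n q, ¬ 2 ∣ q → RowN.{u} (.oplus n q)
  ominus : ∀ n q, ¬ 2 ∣ q → RowN.{u} (.ominus n q)
  g2 : ∀ q, ¬ 2 ∣ q → RowN.{u} (.g2 q)
  f4 : ∀ q, ¬ 2 ∣ q → RowN.{u} (.f4 q)
  e6 : ∀ q, ¬ 2 ∣ q → RowN.{u} (.e6 q)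
  e7 : ∀ q, ¬ 2 ∣ q → RowN.{u} (.e7 q)
  e8 : ∀ q, ¬ 2 ∣ q → RowN.{u} (.e8 q)
  te6 : ∀ q, ¬ 2 ∣ q → RowN.{u} (.te6 q)
  td4 : ∀ q, ¬ 2 ∣ q → RowN.{u} (.td4 q)
  ree : ∀ q, RowN.{u} (.ree q)
  tits : RowN.{u} .tits
  m11 : RowN.{u} .m11
  m12 : RowN.{u} .m12
  m22 : RowN.{u} .m22
  m23 : RowN.{u} .m23
  m24 : RowN.{u} .m24
  j1 : RowN.{u} .j1
  j2 : RowN.{u} .j2
  j3 : RowN.{u} .j3
  j4 : RowN.{u} .j4
  co1 : RowN.{u} .co1
  co2 : RowN.{u} .co2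
  co3 : RowN.{u} .co3
  mcl : RowN.{u} .mcl
  hs : RowN.{u} .hs
  suz : RowN.{u} .suz
  he : RowN.{u} .he
  ru : RowN.{u} .ru
  on : RowN.{u} .on
  ly : RowN.{u} .ly
  fi22 : RowN.{u} .fi22
  fi23 : RowN.{u} .fi23
  fi24 : RowN.{u} .fi24
  hn : RowN.{u} .hn
  th : RowN.{u} .th
  b : RowN.{u} .b
  m : RowN.{u} .m

theorem Rows.all (R : Rows.{u}) (g : Grp) : RowN.{u} g := by
  cases g with
  | alt n => exact R.alt n
  | psl n q => exact if h : 2 ∣ q then R.psl2 n q h else R.psl n q h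
  | psp n q => exact if h : 2 ∣ q then R.psp2 n q h else R.psp n q h
  | psu n q => exact if h : 2 ∣ q then R.psu2 n q h else R.psu n q h
  | oodd n q => exact R.oodd n q
  | oplus n q => exact if h : 2 ∣ q then R.oplus2 n q h else R.oplus n q h
  | ominus n q => exact if h : 2 ∣ q then R.ominus2 n q h else R.ominus n q h
  | g2 q => exact if h : 2 ∣ q then R.g22 q h else R.g2 q h
  | f4 q => exact if h : 2 ∣ q then R.f42 q h else R.f4 q h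
  | e6 q => exact if h : 2 ∣ q then R.e62 q h else R.e6 q h
  | e7 q => exact if h : 2 ∣ q then R.e72 q h else R.e7 q h
  | e8 q => exact if h : 2 ∣ q then R.e82 q h else R.e8 q h
  | te6 q => exact if h : 2 ∣ q then R.te62 q h else R.te6 q h
  | td4 q => exact if h : 2 ∣ q then R.td42 q h else R.td4 q h
  | sz q => exact R.sz q
  | ree q => exact R.ree q
  | tf4 q => exact R.tf4 q
  | tits => exact R.tits
  | m11 => exact R.m11
  | m12 => exact R.m12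
  | m22 => exact R.m22
  | m23 => exact R.m23
  | m24 => exact R.m24
  | j1 => exact R.j1
  | j2 => exact R.j2
  | j3 => exact R.j3
  | j4 => exact R.j4
  | co1 => exact R.co1
  | co2 => exact R.co2
  | co3 => exact R.co3
  | mcl => exact R.mcl
  | hs => exact R.hs
  | suz => exact R.suz
  | he => exact R.he
  | ru => exact R.ru
  | on => exact R.on
  | ly => exact R.ly
  | fi22 => exact R.fi22
  | fi23 => exact R.fi23
  | fi24 => exact R.fi24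
  | hn => exact R.hn
  | th => exact R.th
  | b => exact R.b
  | m => exact R.m

/-- S4785 from the rows and the classification -/
theorem s4785_of (R : Rows.{u}) (hname : ∀ (T : Type u) [Group T] [Finite T] [IsSimpleGroup T],
      (¬ ∀ a b : T, a * b = b * a) → ∃ g, IsNamed g T)
    {G : Type u} [Group G] [Fintype G] (hO : ∀ N : Subgroup G, N.Normal → Odd N.index → N = ⊤) (H : Subgroup G)
    (hH : H ≠ ⊤) : ∃ χ : IrrCharacter G, (χ : G → ℂ) ≠ (fun _ => 1) ∧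
      (∀ g : G, (starRingEnd ℂ) ((χ : G → ℂ) g) = (χ : G → ℂ) g) ∧
      ∃ m : ℕ, Odd m ∧ classInner (indFun H (fun _ : H => (1 : ℂ))) (χ : G → ℂ) = m :=
  s4785_of_rows8 (fun T _ _ _ hna => by
    obtain ⟨g, hg⟩ := hname T hna
    exact R.all g T hg) hO H hH

end Cfsg.Agent.H453.OddM
end

-- part: H190/Odd/Big8
section
set_option linter.all false
open scoped Cfsg.Agent.FastGrp

/-!
# The isolated tori of class `8` in `E₆(q)`, `²E₆(q)` are big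

`big_E6_8`, `big_TE6_8` : `Big G r ((q⁴ + 1)(q² - 1)) 8`.
-/

set_option autoImplicit false
set_option linter.unusedSectionVars false
set_option linter.unusedSimpArgs false

namespace Cfsg.Agent.H190.Odd

open Cfsg.Agent Cfsg.Lie Cfsg.Agent.H56.Exc

universe u

/-- the arithmetic of the automizer: `3a ≡ 8` modulo `r` is impossible for `a ∣ r - 1`, `8 ∣ r - 1` -/
theorem no_three {r a : ℕ} (hr : 8 < r) (h8 : 8 ∣ r - 1) (ha : a ∣ r - 1) (h : (3 : ZMod r) * a = 8) : False := by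
  have h1 : ((3 * a : ℕ) : ZMod r) = ((8 : ℕ) : ZMod r) := by push_cast; exact h
  rw [ZMod.natCast_eq_natCast_iff] at h1
  obtain ⟨b, hb⟩ := ha
  have ha0 : a ≤ r - 1 := Nat.le_of_dvd (by omega) ⟨b, hb⟩
  obtain ⟨c, hc⟩ := h8
  have h2 : 3 * a % r = 8 := by
    rw [h1, Nat.mod_eq_of_lt hr]
  have h3 := Nat.div_add_mod (3 * a) r
  rw [h2] at h3
  have hj3 : 3 * a / r < 3 := (Nat.div_lt_iff_lt_mul (lt_trans (by norm_num) hr)).2 (by omega)
  generalize 3 * a / r = j at h3 hj3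
  have h4 : 3 * (r - 1) = (3 * a) * b := by rw [hb]; ring
  rw [← h3] at h4
  have hj012 : j = 0 ∨ j = 1 ∨ j = 2 := by omega
  rcases hj012 with h0 | h0 | h0
  · rw [h0] at h3; omega
  · rw [h0] at h4
    have hb3 : b < 3 := by
      by_contra hcon
      have : (r * 1 + 8) * 3 ≤ (r * 1 + 8) * b := Nat.mul_le_mul_left _ (by omega)
      omega
    interval_cases b <;> omega
  · rw [h0] at h4
    have hb3 : b < 2 := by
      by_contra hcon
      have : (r * 2 + 8) * 2 ≤ (r * 2 + 8) * b := Nat.mul_le_mul_left _ (by omega)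
      omega
    interval_cases b <;> omega

/-- **The numerics of the automizer, class `8`.** -/
theorem row_eight {G : Type*} [Group G] [Finite G] {r m D : ℕ} {K : ℤ} (hr : r.Prime) (h : CycCard G r m D)
    (hD : D = 3 ∨ D = 1) (h8 : 8 ∣ r - 1)
    (hG : (D : ℤ) * Nat.card G = m * K) (hK : (K : ZMod r) = 8) : Big G r m 8 := by
  have hfact : Fact r.Prime := ⟨hr⟩
  have hr2 := hr.two_le
  have h9 : 8 < r := by
    have := Nat.le_of_dvd (by omega) h8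
    omega
  refine Big.of_cyc hr h ?_ (fun h1 => absurd (Nat.le_of_dvd (by norm_num) h1) (not_le.2 h9))
  intro t c a htm hmt hc ha hca
  have ha0 : 0 < r - 1 := by omega
  have har : a < r := lt_of_le_of_lt (Nat.le_of_dvd ha0 ha) (by omega)
  have hD0 : 0 < D := by rcases hD with h1 | h1 <;> omega
  have ht0 : 0 < t := Nat.pos_of_ne_zero (by
    rintro rfl
    rw [zero_mul] at hc
    exact absurd hc Nat.card_pos.ne')
  obtain ⟨s, rfl⟩ := htm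
  have hsD : s ∣ D := Nat.dvd_of_mul_dvd_mul_left ht0 (by rw [mul_comm t D]; exact hmt)
  have hcK : (D : ℤ) * c = s * K := by
    have h1 : (D : ℤ) * (t * c) = (t * s) * K := by
      rw [hc] at hG; push_cast at hG; exact hG
    have ht : (t : ℤ) ≠ 0 := by exact_mod_cast ht0.ne'
    apply mul_left_cancel₀ ht
    linear_combination h1
  have hcz : (c : ZMod r) = a := (ZMod.natCast_eq_natCast_iff _ _ _).2 hca
  have hDs : (D : ZMod r) * a = s * 8 := by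
    have h1 := congrArg (Int.cast : ℤ → ZMod r) hcK
    push_cast at h1
    rw [hcz, hK] at h1
    exact h1
  have hDr : ¬ r ∣ D := fun h1 => by
    have := Nat.le_of_dvd hD0 h1
    rcases hD with h2 | h2 <;> omega
  have hsone : s = D ∨ s = 1 := by
    rcases hD with h1 | h1
    · subst h1
      exact ((Nat.dvd_prime Nat.prime_three).1 hsD).symm
    · rw [h1] at hsD; exact Or.inr (Nat.dvd_one.1 hsD)
  have hDz : (D : ZMod r) ≠ 0 := by rwa [Ne, ZMod.natCast_eq_zero_iff]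
  have height : ∀ h1 : (a : ZMod r) = 8, a ∣ 8 := by
    intro h1
    have h2 : ((a : ℕ) : ZMod r) = ((8 : ℕ) : ZMod r) := by push_cast; exact h1
    rw [ZMod.natCast_eq_natCast_iff, Nat.ModEq, Nat.mod_eq_of_lt har, Nat.mod_eq_of_lt h9] at h2
    exact h2.dvd
  rcases hsone with rfl | rfl
  · exact height (mul_left_cancel₀ hDz hDs)
  · rcases hD with rfl | rfl
    · exfalso
      push_cast at hDs
      rw [one_mul] at hDs
      exact no_three h9 h8 ha hDs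
    · push_cast at hDs
      rw [one_mul, one_mul] at hDs
      exact height hDs

section Kap

variable {R : Type*} [CommRing R] {x : R}

theorem kap_E6_8 (h : 1 + x ^ 4 = 0) :
    x ^ 36 * (x ^ 5 - 1) * (x ^ 6 - 1) * (x ^ 4 - 1) * (x ^ 9 - 1) * (x ^ 12 - 1) = 8 := by
  have h4 : x ^ 4 = -1 := by linear_combination h
  have f36 : x ^ 36 = -1 := by rw [show 36 = 4 * 9 by norm_num, pow_mul, h4]; norm_num
  have f5 : x ^ 5 = -x := by rw [show 5 = 4 + 1 by norm_num, pow_add, h4]; ring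
  have f6 : x ^ 6 = -x ^ 2 := by rw [show 6 = 4 + 2 by norm_num, pow_add, h4]; ring
  have f9 : x ^ 9 = x := by rw [show 9 = 4 * 2 + 1 by norm_num, pow_add, pow_mul, h4]; ring
  have f12 : x ^ 12 = -1 := by rw [show 12 = 4 * 3 by norm_num, pow_mul, h4]; norm_num
  rw [f36, f5, f6, h4, f9, f12]
  linear_combination (-4) * h4

theorem kap_TE6_8 (h : 1 + x ^ 4 = 0) :
    x ^ 36 * (x ^ 5 + 1) * (x ^ 6 - 1) * (x ^ 4 - 1) * (x ^ 9 + 1) * (x ^ 12 - 1) = 8 := by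
  have h4 : x ^ 4 = -1 := by linear_combination h
  have f36 : x ^ 36 = -1 := by rw [show 36 = 4 * 9 by norm_num, pow_mul, h4]; norm_num
  have f5 : x ^ 5 = -x := by rw [show 5 = 4 + 1 by norm_num, pow_add, h4]; ring
  have f6 : x ^ 6 = -x ^ 2 := by rw [show 6 = 4 + 2 by norm_num, pow_add, h4]; ring
  have f9 : x ^ 9 = x := by rw [show 9 = 4 * 2 + 1 by norm_num, pow_add, pow_mul, h4]; ring
  have f12 : x ^ 12 = -1 := by rw [show 12 = 4 * 3 by norm_num, pow_mul, h4]; norm_num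
  rw [f36, f5, f6, h4, f9, f12]
  linear_combination (-4) * h4

end Kap

theorem gcd_three {n : ℕ} : Nat.gcd 3 n = 3 ∨ Nat.gcd 3 n = 1 :=
  ((Nat.dvd_prime Nat.prime_three).1 (Nat.gcd_dvd_left 3 n)).symm

variable {F : Type u} [Field F] [Fintype F] {q : ℕ}

theorem big_E6_8 (hq : Fintype.card F = q) {m r : ℕ}
    (hm : (m : ℤ) = (1 + (q : ℤ) ^ 4) * ((q : ℤ) ^ 2 - 1)) (hr : H436.Prim q 8 r) :
    Big ↥(chevE6.group F) r m 8 := by
  have hq2 : 2 ≤ q := by rw [← hq]; exact Fintype.one_lt_card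
  have hlt := prim_lt hr (by norm_num)
  have h8 : 8 ∣ r - 1 := by
    have := Fact.mk hr.prime
    have h1 : (q : ZMod r) ^ (r - 1) = 1 := ZMod.pow_card_sub_one_eq_one (by
      rw [Ne, ZMod.natCast_eq_zero_iff]; exact hr.not_dvd)
    exact (prim_pow hr _).1 h1
  refine row_eight (K := (q : ℤ) ^ 36 * ((q : ℤ) ^ 5 - 1) * ((q : ℤ) ^ 6 - 1) * ((q : ℤ) ^ 4 - 1) *
    ((q : ℤ) ^ 9 - 1) * ((q : ℤ) ^ 12 - 1)) hr.prime (Cfsg.Agent.H129.CycCard.card_E6_8 hq hm hr.prime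
    (prim_dvd_8 hr) (by omega)) gcd_three h8
    ?_ ?_
  · rw [ord_E6 hq, hm]; ring
  · push_cast
    exact kap_E6_8 (prim_phi_8 hr)

theorem big_TE6_8 (hq : IsPrimePow q) (hK : Fintype.card F = q ^ 2) {m r : ℕ}
    (hm : (m : ℤ) = (1 + (q : ℤ) ^ 4) * ((q : ℤ) ^ 2 - 1)) (hr : H436.Prim q 8 r) :
    Big ↥(twistedE6 F q) r m 8 := by
  have hq2 : 2 ≤ q := hq.two_le
  have hlt := prim_lt hr (by norm_num)
  have h8 : 8 ∣ r - 1 := by
    have := Fact.mk hr.prime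
    have h1 : (q : ZMod r) ^ (r - 1) = 1 := ZMod.pow_card_sub_one_eq_one (by
      rw [Ne, ZMod.natCast_eq_zero_iff]; exact hr.not_dvd)
    exact (prim_pow hr _).1 h1
  refine row_eight (K := (q : ℤ) ^ 36 * ((q : ℤ) ^ 5 + 1) * ((q : ℤ) ^ 6 - 1) * ((q : ℤ) ^ 4 - 1) *
    ((q : ℤ) ^ 9 + 1) * ((q : ℤ) ^ 12 - 1)) hr.prime (Cfsg.Agent.H129.CycCard.card_tE6_8 hq hK hm hr.prime
    (prim_dvd_8 hr) (by omega)) gcd_three h8 ?_ ?_
  · rw [ord_TE6 hq hK, hm]; ring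
  · push_cast
    exact kap_TE6_8 (prim_phi_8 hr)

end Cfsg.Agent.H190.Odd
end
end
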